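import Cfsg.Agent.H683.O8R.Bound34
import Cfsg.Agent.H60.O8R.Own34
import Cfsg.Agent.H60.O8R.Subf34
import Cfsg.Agent.H561.F34.Cross
import Cfsg.Agent.H592.F34.GlFour

/-!
# S3691, row `PΩ₈⁺(q)`, box F34 (helper683)
-/

set_option autoImplicit false
set_option linter.unusedSectionVars false

namespace Cfsg.Agent.H683.F34

open Module QuadraticMap Cfsg Cfsg.Geo Cfsg.Agent.LieClassical.OrthCore Cfsg.Agent.H955 Cfsg.Agent.H954.TSing
open Cfsg.Agent.LieClassical.OmegaReindex Cfsg.Agent.H915.LD Cfsg.Agent.H902 Cfsg.Agent.H902.Names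
open Cfsg.Agent.H951 (fx cm Inv)
open Cfsg.Agent.H884.El
open Cfsg.Agent.H708.O8 (I8 T8 RB)
open Cfsg.Agent.H823.O8S Cfsg.Agent.H823.O8R
open Cfsg.Agent.H683.O8R
open scoped MatrixGroups Matrix

variable {F : Type} [Field F] [Fintype F] {p a r b s k t : ℕ} {R : Subgroup (T8 F)}

/-- `q^6 (q-1) (q³-1) (q⁴-1) ≤ |SL₄(q)|` -/
theorem bound_le (hF : Nat.card F = p ^ a) (h16 : 16 ≤ p ^ a) :
    (p ^ a) ^ 6 * ((p ^ a) - 1) * ((p ^ a) ^ 3 - 1) * ((p ^ a) ^ 4 - 1) ≤ Nat.card (specialLinear (Fin 4) F) := by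
  have h1 := H294.Rl.sl_ge (F := F) (n := 4) (by norm_num)
  rw [← Nat.card_eq_fintype_card, hF] at h1
  norm_num at h1
  set q := p ^ a with hq
  have h2 : q ^ 6 * (q - 1) * (q ^ 3 - 1) * (q ^ 4 - 1) ≤ q ^ 6 * q * q ^ 3 * q ^ 4 :=
    Nat.mul_le_mul (Nat.mul_le_mul (Nat.mul_le_mul_left _ (Nat.sub_le _ _)) (Nat.sub_le _ _)) (Nat.sub_le _ _)
  have h3 : 2 * (q ^ 6 * q * q ^ 3 * q ^ 4) ≤ q ^ 15 := by
    have h4 : q ^ 6 * q * q ^ 3 * q ^ 4 = q ^ 14 := by ring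
    rw [h4, pow_succ q 14, mul_comm (q ^ 14) q]
    exact Nat.mul_le_mul_right _ (by omega)
  omega

/-- **(F34)** -/
theorem f34_of (hKn : ∀ (X : Type) [Group X] [Finite X] [IsSimpleGroup X], Cfsg.IsKnownSimple' X)
    (hF : Nat.card F = p ^ a) (h : Nm p a r b s k t) (hr : r ^ b ∣ Nat.card R) (ht : t ∣ Nat.card R)
    (hs : ¬ s ∣ Nat.card R) (hp : p ^ (5 * a) ∣ Nat.card R) :
    (∃ y ∈ pre (quadFormPlus 4 F) R, orderOf y = r ∧ fx (lin y) ≠ ⊥) ∨
    (∃ (u w : I8 → F) (hu : LieClassical.QuadForms.plusForm 4 F u = 0)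
      (hw : polar (LieClassical.QuadForms.plusForm 4 F) u w = 0), LinearIndependent F ![u, w] ∧
      (LieClassical.OrthFinite.glEquiv I8 F).symm (LieClassical.OrthCore.siegel (LieClassical.QuadForms.plusForm 4 F) u w hu hw) ∈
        pre (quadFormPlus 4 F) R) ∨
    (p ^ a) ^ 6 * ((p ^ a) - 1) * ((p ^ a) ^ 3 - 1) * ((p ^ a) ^ 4 - 1) ≤ 2 * Nat.card R := by
  by_cases hfree : ∃ y ∈ pre (quadFormPlus 4 F) R, orderOf y = r ∧ fx (lin y) ≠ ⊥
  · exact Or.inl hfree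
  right
  push Not at hfree
  have hcp : Nat.card R ∣ Nat.card (pre (quadFormPlus 4 F) R) := card_dvd_pre
  have hle : pre (quadFormPlus 4 F) R ≤ isometryGroup F (quadFormPlus 4 F) := H884.El.pre_le (Q := quadFormPlus 4 F) (M := R)
  have hb1 : 1 ≤ b := h.rb.b1
  have hfinG : Finite (GL I8 F) := inferInstance
  rcases geo34 hF h hle (hr.trans hcp) (ht.trans hcp) hfree with ⟨P, hP, -⟩ | ⟨H', W, hH', hr', ht', hW4, hWs, hst⟩ |
    ⟨hirr, F₁, B, ζ, hζ, hF1, hB, hHB⟩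
  · right
    obtain ⟨S, hSn, hSs, hna, hC, ⟨e⟩⟩ := H264.FKS.exists_res_plus le_rfl (M := R) hP
    by_cases hL : IsLieTypeChar p (Soc P)
    · have h1 := H60.O8R.own34 hF h S hSs hna hC (OddHalf.Known.isLieTypeChar_congr e.symm hL)
        ((dvd_pow_self r (by omega)).trans hr) ht hs
      exact h1.trans (Nat.mul_le_mul_left _ (Nat.le_of_dvd Nat.card_pos (Subgroup.card_subgroup_dvd_card S)))
    · have := hP.simple
      exact absurd hp (H561.F34.cross34 hF h S hSs hna hC hP e hL (hKn (Soc P)))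
  · right
    have hP4 : PP (Nat.card F) 4 r := h.rb.ppF hF
    have hP3 : PP (Nat.card F) 3 t := H823.O8R.Nm.pp3 hF h
    have h1 : Nat.card (specialLinear (Fin 4) F) ≤ Nat.card H' :=
      card_ts hP4.prime (hP4.ne0 (by norm_num)) hP3.prime (hP3.ne0 (by norm_num)) b (hH'.trans hle) hW4 hWs hst hr' ht'
        fun A hA1 hA2 => Nat.le_of_dvd Nat.card_pos (Subgroup.card_dvd_of_le (H592.F34.gl_four hF h hA1 hA2))
    have h2 : Nat.card H' ≤ Nat.card (pre (quadFormPlus 4 F) R) := Nat.le_of_dvd Nat.card_pos (Subgroup.card_dvd_of_le hH')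
    exact (bound_le hF h.q16).trans (h1.trans (h2.trans card_pre_le))
  · exact Or.inl (H60.O8R.subf34 hF h hle hirr (hp.trans hcp) hζ hF1 hB hHB)

end Cfsg.Agent.H683.F34
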