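import Cfsg.Agent.H683.O8R.Geo34
import Cfsg.Agent.H111.Rg.Plane
import Cfsg.Agent.H294.Rl.Size

/-!
# S3691, `PΩ₈⁺(q)`, box F34: the order of a group fixing a totally singular 4-space (helper683)
-/

set_option autoImplicit false
set_option linter.unusedSectionVars false

namespace Cfsg.Agent.H683.O8R

open Module QuadraticMap Cfsg Cfsg.Geo Cfsg.Agent.LieClassical.OrthCore Cfsg.Agent.H955 Cfsg.Agent.H954.TSing
open Cfsg.Agent.LieClassical.OmegaReindex Cfsg.Agent.LieClassical.OrthFinite
open Cfsg.Agent.H951 (fx cm Inv)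
open Cfsg.Agent.H884.El
open Cfsg.Agent.H708.O8
open Cfsg.Agent.H436 (Prim)
open Cfsg.Agent.H823.O8R (Nm)
open Cfsg.Agent.H111.Rg (rstr rstr_apply)
open scoped MatrixGroups Matrix

variable {F : Type} [Field F] [Fintype F] {p a r b s k t : ℕ} {R : Subgroup (T8 F)}

/-- the centre of `Ω` has order at most two -/
theorem card_centre : Nat.card (Subgroup.center (Omega F (quadFormPlus 4 F))) ≤ 2 := by
  classical
  have h8 : 3 ≤ Fintype.card I8 := by rw [Fintype.card_sum, Fintype.card_fin]; norm_num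
  have hQ : (polarBilin (quadPlus 4 F)).Nondegenerate := quadPlus_nondegenerate
  have hs : ∃ u : I8 → F, u ≠ 0 ∧ quadPlus 4 F u = 0 := by
    refine ⟨Pi.single (Sum.inl 0) 1, ?_, ?_⟩
    · intro h
      have := congrFun h (Sum.inl 0)
      rw [Pi.single_eq_same, Pi.zero_apply] at this
      exact one_ne_zero this
    · rw [coe_quadPlus]
      simp [quadFormPlus]
  have key := LieClassical.OmegaCenter.mem_center_omega_iff (quadPlus 4 F) hQ h8 hs
  rw [coe_quadPlus] at key
  have h1 : Nat.card (Subgroup.center (Omega F (quadFormPlus 4 F))) ≤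
      Nat.card ({1, -1} : Finset (Matrix I8 I8 F)) := by
    refine Nat.card_le_card_of_injective (fun g => ⟨LieClassical.OmegaCenter.omegaMat g.1, ?_⟩) ?_
    · rw [Finset.mem_insert, Finset.mem_singleton]
      exact (key g.1).1 g.2
    · intro g g' hg
      apply Subtype.ext
      exact LieClassical.OmegaCenter.omega_ext (congrArg (fun z => z.1) hg)
  refine h1.trans ?_
  rw [Nat.card_eq_fintype_card, Fintype.card_coe]
  exact Finset.card_le_two

theorem card_pre_le : Nat.card (pre (quadFormPlus 4 F) R) ≤ 2 * Nat.card R := by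
  have h1 : Nat.card (pre (quadFormPlus 4 F) R) =
      Nat.card (R.comap (QuotientGroup.mk' (Subgroup.center (Omega F (quadFormPlus 4 F))))) := by
    unfold pre
    rw [Subgroup.card_map_of_injective (isometryGroup F (quadFormPlus 4 F)).subtype_injective,
      Subgroup.card_map_of_injective (Omega F (quadFormPlus 4 F)).subtype_injective]
  rw [h1]
  set H : Subgroup (Omega F (quadFormPlus 4 F)) := R.comap (QuotientGroup.mk' (Subgroup.center (Omega F (quadFormPlus 4 F)))) with hH
  set Z := Subgroup.center (Omega F (quadFormPlus 4 F)) with hZ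
  have h2 : H.index = R.index := Subgroup.index_comap_of_surjective _ (QuotientGroup.mk'_surjective _)
  have h3 := H.card_mul_index
  have h4 := R.card_mul_index
  have h5 : Nat.card (Omega F (quadFormPlus 4 F)) = Nat.card (T8 F) * Nat.card Z :=
    Subgroup.card_eq_card_quotient_mul_card_subgroup Z
  have h6 : 0 < H.index := Nat.pos_of_ne_zero Subgroup.index_ne_zero_of_finite
  have h7 : Nat.card H = Nat.card R * Nat.card Z := by
    apply Nat.eq_of_mul_eq_mul_right h6
    rw [h3, h5, ← h4, h2]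
    ring
  rw [h7, mul_comm]
  exact Nat.mul_le_mul_right _ card_centre

/-- **the order of a group fixing a totally singular 4-space** -/
theorem card_ts {N t : ℕ} {ℓ : ℕ} (hℓ : ℓ.Prime) (hℓF : (ℓ : F) ≠ 0) (ht : t.Prime) (htF : (t : F) ≠ 0) (b : ℕ)
    {H : Subgroup (GL I8 F)} (hH : H ≤ isometryGroup F (quadFormPlus 4 F)) {W : Submodule F (I8 → F)}
    (hW4 : finrank F W = 4) (hWs : TS (quadPlus 4 F) W) (hst : H ≤ subspaceStabilizer W)
    (hr : ℓ ^ b ∣ Nat.card H) (htd : t ∣ Nat.card H)
    (hGL : ∀ A : Subgroup (GL (Fin 4) F), ℓ ^ b ∣ Nat.card A → t ∣ Nat.card A → N ≤ Nat.card A) :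
    N ≤ Nat.card H := by
  classical
  have hQ : Nondeg (quadPlus 4 F) := nondeg_iff.2 quadPlus_nondegenerate
  have hcoe : ⇑(quadPlus 4 F) = quadFormPlus 4 F := coe_quadPlus 4 F
  rw [← hcoe] at hH
  have hfin8 : finrank F (I8 → F) = 8 := fin8
  have hfinG : Finite (GL I8 F) := inferInstance
  have hfinV : Finite ((I8 → F) ≃ₗ[F] (I8 → F)) := Finite.of_equiv _ (glEquiv I8 F).toEquiv
  let A : Subgroup ((I8 → F) ≃ₗ[F] (I8 → F)) := H.map (glEquiv I8 F).toMonoidHom
  have hA : Nat.card A = Nat.card H := Subgroup.card_map_of_injective (glEquiv I8 F).injective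
  have hmem : ∀ x ∈ A, ∃ g ∈ H, ∀ v, x v = lin g v := by
    rintro x ⟨g, hg, rfl⟩
    exact ⟨g, hg, fun v => rfl⟩
  have hAW : ∀ x ∈ A, ∀ v ∈ W, x v ∈ W := by
    intro x hx v hv
    obtain ⟨g, hg, hgx⟩ := hmem x hx
    rw [hgx]
    exact inv_of_mem (hst hg) v hv
  have hAQ : ∀ x ∈ A, ∀ v, quadPlus 4 F (x v) = quadPlus 4 F v := by
    intro x hx v
    obtain ⟨g, hg, hgx⟩ := hmem x hx
    rw [hgx]
    exact lin_iso hH hg v
  have hpol : ∀ x ∈ A, ∀ u v, polar (quadPlus 4 F) (x u) (x v) = polar (quadPlus 4 F) u v := by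
    intro x hx u v
    rw [polar, polar, ← map_add, hAQ x hx, hAQ x hx, hAQ x hx]
  -- `W` is its own orthogonal complement
  have hWle : W ≤ perp (quadPlus 4 F) W := by
    intro w hw u hu
    rw [polar, hWs _ (W.add_mem hu hw), hWs _ hw, hWs _ hu]
    ring
  have hWp : W = perp (quadPlus 4 F) W := by
    refine Submodule.eq_of_le_of_finrank_eq hWle ?_
    have h1 : finrank F (perp (quadPlus 4 F) W) = finrank F (I8 → F) - finrank F W := finrank_perp hQ W
    rw [h1, hW4, hfin8]
  let e : W ≃ₗ[F] (Fin 4 → F) := (finBasisOfFinrankEq F W hW4).equivFun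
  let Φ : A →* GL (Fin 4) F :=
    { toFun := fun x => (glEquiv (Fin 4) F).symm ((e.symm.trans (rstr hAW x)).trans e)
      map_one' := by
        apply (glEquiv (Fin 4) F).injective
        rw [MulEquiv.apply_symm_apply, map_one, map_one]
        ext v : 1
        exact e.apply_symm_apply v
      map_mul' := fun x y => by
        apply (glEquiv (Fin 4) F).injective
        rw [MulEquiv.apply_symm_apply, map_mul, map_mul, MulEquiv.apply_symm_apply, MulEquiv.apply_symm_apply]
        apply LinearEquiv.ext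
        intro v
        change e ((rstr hAW x) ((rstr hAW y) (e.symm v))) = e ((rstr hAW x) (e.symm (e ((rstr hAW y) (e.symm v)))))
        rw [LinearEquiv.symm_apply_apply] }
  -- the kernel
  have hker : ∀ x ∈ Φ.ker, ∀ w ∈ W, (x : (I8 → F) ≃ₗ[F] (I8 → F)) w = w := by
    intro x hx w hw
    have h1 : Φ x = 1 := hx
    have h2 : (e.symm.trans (rstr hAW x)).trans e = 1 := by
      apply (glEquiv (Fin 4) F).symm.injective
      rw [map_one]
      exact h1
    have h3 := LinearEquiv.congr_fun h2 (e ⟨w, hw⟩)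
    change e ((rstr hAW x) (e.symm (e ⟨w, hw⟩))) = e ⟨w, hw⟩ at h3
    rw [LinearEquiv.symm_apply_apply] at h3
    exact congrArg Subtype.val (e.injective h3)
  have hkp : ∀ ℓ : ℕ, ℓ.Prime → (ℓ : F) ≠ 0 → ¬ ℓ ∣ Nat.card Φ.ker := by
    intro ℓ hℓ hℓF hd
    have := Fact.mk hℓ
    obtain ⟨x, hx⟩ := exists_prime_orderOf_dvd_card' ℓ hd
    have hx1 : x ≠ 1 := by
      intro h0
      rw [h0, orderOf_one] at hx
      exact hℓ.one_lt.ne hx
    apply hx1
    have hxl : ((x : A) : (I8 → F) ≃ₗ[F] (I8 → F)) ^ ℓ = 1 := by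
      have h1 : x ^ ℓ = 1 := by rw [← hx, pow_orderOf_eq_one]
      have h2 := congrArg (fun z : Φ.ker => ((z : A) : (I8 → F) ≃ₗ[F] (I8 → F))) h1
      exact h2
    have hfix := hker x x.2
    obtain ⟨X, hX⟩ : ∃ X : (I8 → F) ≃ₗ[F] (I8 → F), X = ((x : A) : (I8 → F) ≃ₗ[F] (I8 → F)) := ⟨_, rfl⟩
    have hXA : X ∈ A := by rw [hX]; exact (x : A).2
    rw [← hX] at hxl
    have hfixX : ∀ w ∈ W, X w = w := by rw [hX]; exact hfix
    have hmove : ∀ v, X v - v ∈ W := by
      intro v
      rw [hWp]
      intro u hu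
      rw [polar_sub_right, sub_eq_zero]
      have h1 := hpol X hXA u v
      rw [hfixX u hu] at h1
      exact h1
    have hpow : ∀ (n : ℕ) v, (X ^ n) v = v + (n : F) • (X v - v) := by
      intro n
      induction n with
      | zero => intro v; simp
      | succ n ih =>
        intro v
        rw [pow_succ', LinearEquiv.mul_apply, ih, map_add, map_smul, hfixX _ (hmove v)]
        push_cast
        rw [add_smul, one_smul]
        abel
    have hone : ∀ v, X v = v := by
      intro v
      have h1 := hpow ℓ v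
      rw [hxl] at h1
      have h2 : (ℓ : F) • (X v - v) = 0 := by
        have h3 : v = v + (ℓ : F) • (X v - v) := h1
        exact (left_eq_add).1 h3
      exact sub_eq_zero.1 ((smul_eq_zero.1 h2).resolve_left hℓF)
    apply Subtype.ext
    apply Subtype.ext
    apply LinearEquiv.ext
    intro v
    rw [← hX]
    exact hone v
  have hcard : Nat.card Φ.ker * Nat.card Φ.range = Nat.card H := by
    rw [← hA, ← Φ.ker.card_mul_index, Subgroup.index_ker]
  have hN : N ≤ Nat.card Φ.range := by
    apply hGL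
    · have h1 : (ℓ ^ b).Coprime (Nat.card Φ.ker) := Nat.Coprime.pow_left _ ((Nat.Prime.coprime_iff_not_dvd hℓ).2 (hkp ℓ hℓ hℓF))
      refine h1.dvd_of_dvd_mul_left ?_
      rw [hcard]
      exact hr
    · have h1 : t.Coprime (Nat.card Φ.ker) := (Nat.Prime.coprime_iff_not_dvd ht).2 (hkp t ht htF)
      refine h1.dvd_of_dvd_mul_left ?_
      rw [hcard]
      exact htd
  refine hN.trans ?_
  rw [← hcard]
  exact Nat.le_mul_of_pos_left _ Nat.card_pos

end Cfsg.Agent.H683.O8R
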