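import Cfsg.Agent.H683.O8R.Geo
import Cfsg.Agent.H111.Rg.Plane
import Cfsg.Agent.H955.QMinus
import Cfsg.Agent.H81.CycSInd
import Cfsg.Agent.S0287
import Cfsg.Agent.S0288

/-!
# S3691, `PΩ₈⁺(q)`: orders of the groups exchanging two 4-spaces (helper683)
-/

set_option autoImplicit false
set_option linter.unusedSectionVars false

namespace Cfsg.Agent.H683.O8R

open Module QuadraticMap Cfsg Cfsg.Geo Cfsg.Agent.LieClassical.OrthCore Cfsg.Agent.H955 Cfsg.Agent.H954.TSing
open Cfsg.Agent.LieClassical.OmegaReindex Cfsg.Agent.LieClassical.OrthFinite Cfsg.Agent.LieClassical.QuadForms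
open Cfsg.Agent.H951 (fx cm Inv)
open Cfsg.Agent.H884.El
open Cfsg.Agent.H708.O8
open Cfsg.Agent.H436 (Prim)
open Cfsg.Agent.H111.Rg (rstr rstr_apply)
open Cfsg.Agent.H81.CycS (card_O_congr)
open scoped MatrixGroups Matrix

section four

variable {K : Type*} [Field K] [Fintype K] {V : Type*} [AddCommGroup V] [Module K V] [FiniteDimensional K V]

/-- the order of an orthogonal group of dimension four divides `2 q² (q⁴ - 1)²` -/
theorem card_O_four (Q : QuadraticForm K V) (hQ : Nondeg Q) (hd : finrank K V = 4) :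
    Nat.card (O Q) ∣ 2 * Nat.card K ^ 2 * (Nat.card K ^ 4 - 1) ^ 2 := by
  have hq : 1 < Nat.card K := Finite.one_lt_card
  have h4 : Nat.card K ^ 4 - 1 = (Nat.card K ^ 2 + 1) * (Nat.card K ^ 2 - 1) := by
    have h5 := Nat.sq_sub_sq (Nat.card K ^ 2) 1
    rw [one_pow, ← pow_mul] at h5
    exact h5
  by_cases hP : H955.IsPlus Q
  · obtain ⟨e, he⟩ := H955.exists_plus_equiv 2 Q hQ hd hP
    rw [card_O_congr e he, ← Nat.card_congr (isometryEquiv (plusForm 2 K)).toEquiv, coe_plusForm,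
      S0287.result (F := K) (q := Nat.card K) Nat.card_eq_fintype_card.symm 2 (by norm_num)]
    norm_num
    rw [Nat.card_eq_fintype_card] at h4
    rw [h4]
    exact ⟨(Fintype.card K ^ 2 + 1) ^ 2, by ring⟩
  · obtain ⟨a, b, hab⟩ := H955.exists_aniso_coeff K
    obtain ⟨e, he⟩ := H955.exists_minus_equiv hab 1 Q hQ hd hP
    have h6 := S0288.result (F := K) (q := Nat.card K) Nat.card_eq_fintype_card.symm 2 (by norm_num) a b hab
    rw [card_O_congr e he, ← Nat.card_congr (isometryEquiv (minusForm 1 K a b)).toEquiv, coe_minusForm]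
    rw [show 2 - 1 = 1 from rfl] at h6
    rw [h6]
    norm_num
    rw [Nat.card_eq_fintype_card] at h4
    rw [h4]
    exact ⟨(Fintype.card K ^ 2 + 1) * (Fintype.card K ^ 2 - 1), by ring⟩

/-- a group of isometries leaving invariant two complementary nondegenerate 4-spaces -/
theorem card_two {Q : QuadraticForm K V} {A : Subgroup (V ≃ₗ[K] V)} (hA : A ≤ O Q) {U W : Submodule K V}
    (hU : ∀ a ∈ A, ∀ x ∈ U, a x ∈ U) (hW : ∀ a ∈ A, ∀ x ∈ W, a x ∈ W) (hsup : U ⊔ W = ⊤) (hUn : Nondeg (res Q U))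
    (hWn : Nondeg (res Q W)) (hUd : finrank K U = 4) (hWd : finrank K W = 4) :
    Nat.card A ∣ (2 * Nat.card K ^ 2 * (Nat.card K ^ 4 - 1) ^ 2) * (2 * Nat.card K ^ 2 * (Nat.card K ^ 4 - 1) ^ 2) := by
  let ρ : A →* ↥(O (res Q U)) := (rstr hU).codRestrict (O (res Q U)) (fun a => by
    intro x
    rw [res_apply, res_apply, rstr_apply]
    exact hA a.2 x)
  let σ : A →* ↥(O (res Q W)) := (rstr hW).codRestrict (O (res Q W)) (fun a => by
    intro x
    rw [res_apply, res_apply, rstr_apply]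
    exact hA a.2 x)
  have hinj : Function.Injective (ρ.prod σ) := by
    rw [injective_iff_map_eq_one]
    intro a ha
    have h1 : ρ a = 1 := congrArg Prod.fst ha
    have h2 : σ a = 1 := congrArg Prod.snd ha
    have h3 : rstr hU a = 1 := congrArg Subtype.val h1
    have h4 : rstr hW a = 1 := congrArg Subtype.val h2
    apply Subtype.ext
    apply LinearEquiv.ext
    intro v
    have hv : v ∈ U ⊔ W := by rw [hsup]; exact Submodule.mem_top
    obtain ⟨x, hx, y, hy, rfl⟩ := Submodule.mem_sup.1 hv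
    have h5 := congrArg Subtype.val (LinearEquiv.congr_fun h3 (⟨x, hx⟩ : U))
    have h6 := congrArg Subtype.val (LinearEquiv.congr_fun h4 (⟨y, hy⟩ : W))
    have h7 : (a : V ≃ₗ[K] V) x = x := h5
    have h8 : (a : V ≃ₗ[K] V) y = y := h6
    rw [map_add, h7, h8]
    rfl
  have h1 := Subgroup.card_dvd_of_injective _ hinj
  rw [Nat.card_prod] at h1
  exact h1.trans (mul_dvd_mul (card_O_four _ hUn hUd) (card_O_four _ hWn hWd))

end four

/-- a subgroup of index at most two -/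
theorem card_dvd_two_mul {G : Type*} [Group G] (H : Subgroup G) (h : ∀ a b : G, a ∉ H → b ∉ H → a * b ∈ H) :
    Nat.card G ∣ 2 * Nat.card H := by
  by_cases hH : ∀ a, a ∈ H
  · have : H = ⊤ := by ext x; exact ⟨fun _ => trivial, fun _ => hH x⟩
    rw [this, Subgroup.card_top]
    exact dvd_mul_left _ _
  · push Not at hH
    obtain ⟨a, ha⟩ := hH
    have h2 : H.index = 2 := by
      rw [Subgroup.index_eq_two_iff]
      refine ⟨a, fun b => ?_⟩
      by_cases hb : b ∈ H
      · exact Or.inr ⟨hb, fun h3 => ha ((Subgroup.mul_mem_cancel_left H hb).1 h3)⟩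
      · exact Or.inl ⟨h b a hb ha, hb⟩
    rw [← H.card_mul_index, h2, mul_comm]

variable {F : Type} [Field F] [Fintype F] {p a r b : ℕ} {H : Subgroup (GL I8 F)} {g₁ g₂ : GL I8 F}

/-- **the groups exchanging the two 4-spaces** -/
theorem card_swap (hF : Nat.card F = p ^ a) (h : RB p a r b) (pr : Pair H g₁ g₂ r) (hsw : Swap H g₁ g₂) :
    Nat.card H ∣ 2 * ((2 * (p ^ a) ^ 2 * ((p ^ a) ^ 4 - 1) ^ 2) * (2 * (p ^ a) ^ 2 * ((p ^ a) ^ 4 - 1) ^ 2)) := by
  have hQ : Nondeg (quadPlus 4 F) := nondeg_iff.2 quadPlus_nondegenerate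
  have hcoe : ⇑(quadPlus 4 F) = quadFormPlus 4 F := coe_quadPlus 4 F
  have hH := pr.le
  rw [← hcoe] at hH
  have i₁ := iso_of hF h (pr.le pr.mem₁) pr.pow₁
  have i₂ := iso_of hF h (pr.le pr.mem₂) pr.pow₂
  have hnd1 : Nondeg (res (quadPlus 4 F) (cm (lin g₁))) := nondeg_cm hQ i₁.iso i₁.ne0 i₁.pow
  have hnd2 : Nondeg (res (quadPlus 4 F) (cm (lin g₂))) := nondeg_cm hQ i₂.iso i₂.ne0 i₂.pow
  have hpp : cm (lin g₂) = perp (quadPlus 4 F) (cm (lin g₁)) := by
    rw [perp_cm hQ i₁.iso i₁.ne0 i₁.pow, pr.cm₂]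
  have hpp' : cm (lin g₁) = perp (quadPlus 4 F) (cm (lin g₂)) := by
    rw [perp_cm hQ i₂.iso i₂.ne0 i₂.pow, pr.fx₂]
  have hperp : ∀ g ∈ H, ∀ W : Submodule F (I8 → F), tr g (perp (quadPlus 4 F) W) = perp (quadPlus 4 F) (tr g W) := by
    intro g hg W
    have hiso : ∀ v, quadPlus 4 F (lin g v) = quadPlus 4 F v := lin_iso hH hg
    apply Submodule.eq_of_le_of_finrank_eq
    · rintro _ ⟨w, hw, rfl⟩
      rintro _ ⟨y', hy', rfl⟩
      rw [polar_isom hiso]
      exact hw y' hy'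
    · rw [finrank_tr]
      have h1 : finrank F (perp (quadPlus 4 F) (tr g W)) = finrank F (I8 → F) - finrank F (tr g W) := finrank_perp hQ (tr g W)
      have h2 : finrank F (perp (quadPlus 4 F) W) = finrank F (I8 → F) - finrank F W := finrank_perp hQ W
      rw [h1, h2, finrank_tr]
  -- the subgroup fixing both
  let H1 : Subgroup H :=
    { carrier := {g | tr (g : GL I8 F) (cm (lin g₁)) = cm (lin g₁)}
      mul_mem' := by
        intro x y hx hy
        change tr (x * y : GL I8 F) _ = _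
        rw [tr_mul]
        change tr (x : GL I8 F) (tr (y : GL I8 F) _) = _
        rw [show tr (y : GL I8 F) (cm (lin g₁)) = cm (lin g₁) from hy]
        exact hx
      one_mem' := by change tr (1 : GL I8 F) _ = _; rw [tr_one]
      inv_mem' := by
        intro x hx
        change tr (x⁻¹ : GL I8 F) _ = _
        have h1 : tr (x : GL I8 F) (cm (lin g₁)) = cm (lin g₁) := hx
        conv_lhs => rw [← h1]
        rw [← tr_mul, inv_mul_cancel, tr_one] }
  have hH1 : ∀ x : H, x ∈ H1 ↔ tr (x : GL I8 F) (cm (lin g₁)) = cm (lin g₁) := fun x => Iff.rfl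
  have hsw2 : ∀ x : H, x ∉ H1 → tr (x : GL I8 F) (cm (lin g₁)) = cm (lin g₂) := fun x hx => (hsw x x.2).resolve_left hx
  have h1 : Nat.card H ∣ 2 * Nat.card H1 := by
    apply card_dvd_two_mul
    intro x y hx hy
    rw [hH1, Subgroup.coe_mul, tr_mul, hsw2 y hy, hpp, hperp _ x.2, hsw2 x hx, ← hpp']
  refine h1.trans (mul_dvd_mul_left 2 ?_)
  rw [← hF]
  let A : Subgroup ((I8 → F) ≃ₗ[F] (I8 → F)) := (H1.map H.subtype).map (glEquiv I8 F).toMonoidHom
  have hA : Nat.card H1 = Nat.card A := by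
    rw [Subgroup.card_map_of_injective (glEquiv I8 F).injective, Subgroup.card_map_of_injective H.subtype_injective]
  rw [hA]
  have hmem : ∀ x ∈ A, ∃ g ∈ H, tr g (cm (lin g₁)) = cm (lin g₁) ∧ ∀ v, x v = lin g v := by
    rintro x ⟨g', ⟨g, hg, rfl⟩, rfl⟩
    exact ⟨g, g.2, hg, fun v => rfl⟩
  refine card_two (Q := quadPlus 4 F) (A := A) ?_ (U := cm (lin g₁)) (W := cm (lin g₂)) ?_ ?_ (pr.codisj hF h) hnd1 hnd2
    pr.dim₁ pr.dim₂
  · intro x hx
    obtain ⟨g, hg, -, hgx⟩ := hmem x hx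
    intro v
    have hiso : ∀ v, quadPlus 4 F (lin g v) = quadPlus 4 F v := lin_iso hH hg
    rw [hgx, hiso]
  · intro x hx v hv
    obtain ⟨g, hg, hgt, hgx⟩ := hmem x hx
    rw [hgx, ← hgt]
    exact ⟨v, hv, rfl⟩
  · intro x hx v hv
    obtain ⟨g, hg, hgt, hgx⟩ := hmem x hx
    have h2 : tr g (cm (lin g₂)) = cm (lin g₂) := by rw [hpp, hperp g hg, hgt]
    rw [hgx, ← h2]
    exact ⟨v, hv, rfl⟩

end Cfsg.Agent.H683.O8R
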