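import Cfsg.Agent.H683.O8R.F34Of
import Cfsg.Agent.S0000
import Cfsg.Agent.H823.O8R.Red

/-!
# S3691, row `PΩ₈⁺(q)`: box F34 with the classification (helper683)
-/

set_option autoImplicit false

namespace Cfsg.Agent.H683.F34

open Cfsg Cfsg.Geo Cfsg.Agent.H823.O8R
open Cfsg.Agent.H708.O8 (I8 T8)

/-- **(F34)** -/
theorem f34 {F : Type} [Field F] [Fintype F] {p a r b s k t : ℕ} {R : Subgroup (T8 F)} (hF : Nat.card F = p ^ a)
    (h : Nm p a r b s k t) (_hR : R ≠ ⊤) (hr : r ^ b ∣ Nat.card R) (ht : t ∣ Nat.card R) (hs : ¬ s ∣ Nat.card R)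
    (hp : p ^ (5 * a) ∣ Nat.card R) : C34 R p a r :=
  f34_of (fun _ _ _ _ => Cfsg.Agent.S0000.result) hF h hr ht hs hp

end Cfsg.Agent.H683.F34
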