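import Cfsg.Agent.H683.O8R.KForm

/-!
# S3691, `PΩ₈⁺(q)`: order of a group with a pair normalising a quadratic field (helper683)
-/

set_option autoImplicit false
set_option linter.unusedSectionVars false
set_option linter.style.haveILetI false

namespace Cfsg.Agent.H683.O8R

open Module QuadraticMap Cfsg Cfsg.Geo Cfsg.Agent.LieClassical.OrthCore Cfsg.Agent.H955 Cfsg.Agent.H954.TSing
open Cfsg.Agent.LieClassical.OmegaReindex Cfsg.Agent.LieClassical.OrthFinite Cfsg.Agent.LieClassical.QuadForms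
open Cfsg.Agent.H951 (fx cm Inv)
open Cfsg.Agent.H884.El
open Cfsg.Agent.H708.O8
open Cfsg.Agent.H436 (Prim)
open Cfsg.Agent.H923 (fieldOf finrank_mul)
open scoped MatrixGroups Matrix

variable {F : Type} [Field F] [Fintype F] {p a r b : ℕ} {H : Subgroup (GL I8 F)} {g₁ g₂ : GL I8 F}

/-- the subgroup commuting with the field has index at most two -/
theorem card_comm {K : Subalgebra F (Matrix I8 I8 F)} (hK : IsFieldSubalgebra 2 K) (hHK : H ≤ subalgebraNormalizer K) :
    ∃ H1 : Subgroup (GL I8 F), H1 ≤ H ∧ Nat.card H ∣ 2 * Nat.card H1 ∧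
      ∀ g ∈ H1, ∀ k ∈ K, (g : Matrix I8 I8 F) * k = k * (g : Matrix I8 I8 F) := by
  have hne : Nonempty I8 := ⟨Sum.inl 0⟩
  have hN : H912.NormAlg H K := fun _ hh a ha => ((hHK hh) a).mp ha
  let _ : Field K := (H912.isField_of_fieldSub hK).toField
  have hfd : Module.Finite F K := inferInstance
  have hKfin : Finite K := Module.finite_of_finite F
  have hgal : IsGalois F K := inferInstance
  let φ : H →* (K ≃ₐ[F] K) :=
    { toFun := fun h => H912.conjSub hN h
      map_one' := by
        apply AlgEquiv.ext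
        intro x
        apply Subtype.ext
        rw [H912.conjSub_coe]
        simp
      map_mul' := by
        intro x y
        apply AlgEquiv.ext
        intro z
        apply Subtype.ext
        rw [H912.conjSub_coe, AlgEquiv.mul_apply, H912.conjSub_coe, H912.conjSub_coe]
        rw [Subgroup.coe_mul, mul_inv_rev, Units.val_mul, Units.val_mul]
        simp only [Matrix.mul_assoc] }
  have hφ : ∀ (h : H) (x : K), ((φ h x : K) : Matrix I8 I8 F) = ((h : GL I8 F) : Matrix I8 I8 F) * x *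
      (((h : GL I8 F)⁻¹ : GL I8 F) : Matrix I8 I8 F) := fun h x => H912.conjSub_coe hN h x
  have hfinH : Finite H := inferInstance
  have hcard : Nat.card (K ≃ₐ[F] K) = 2 := by
    rw [IsGalois.card_aut_eq_finrank, hK.finrank_eq]
  refine ⟨φ.ker.map H.subtype, ?_, ?_, ?_⟩
  · rintro _ ⟨g, -, rfl⟩
    exact g.2
  · rw [Subgroup.card_map_of_injective H.subtype_injective, ← φ.ker.card_mul_index, mul_comm]
    refine mul_dvd_mul_right ?_ _
    rw [Subgroup.index_ker, ← hcard]
    exact Subgroup.card_subgroup_dvd_card _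
  · rintro _ ⟨g, hg, rfl⟩ k hk
    have h1 := hφ g ⟨k, hk⟩
    rw [MonoidHom.mem_ker.1 hg] at h1
    have h2 : k = ((g : GL I8 F) : Matrix I8 I8 F) * k * (((g : GL I8 F)⁻¹ : GL I8 F) : Matrix I8 I8 F) := h1
    have h3 : (((g : GL I8 F)⁻¹ : GL I8 F) : Matrix I8 I8 F) * ((g : GL I8 F) : Matrix I8 I8 F) = 1 := by
      rw [← Units.val_mul, inv_mul_cancel, Units.val_one]
    change ((g : GL I8 F) : Matrix I8 I8 F) * k = k * ((g : GL I8 F) : Matrix I8 I8 F)
    conv_rhs => rw [h2]
    rw [Matrix.mul_assoc, h3, Matrix.mul_one]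

/-- **the groups normalising a quadratic field** -/
theorem card_field (hF : Nat.card F = p ^ a) (h : RB p a r b) (pr : Pair H g₁ g₂ r) {K : Subalgebra F (Matrix I8 I8 F)}
    (hK : IsFieldSubalgebra 2 K) (hadj : IsAdjointClosedFor (polar (quadFormPlus 4 F)) K)
    (hHK : H ≤ subalgebraNormalizer K) :
    Nat.card H ∣ 2 * (2 * ((p ^ a) ^ 2) ^ 2 * (((p ^ a) ^ 2) ^ 4 - 1) ^ 2) := by
  have hne : Nonempty I8 := ⟨Sum.inl 0⟩
  have hQ : Nondeg (quadPlus 4 F) := nondeg_iff.2 quadPlus_nondegenerate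
  have hcoe : ⇑(quadPlus 4 F) = quadFormPlus 4 F := coe_quadPlus 4 F
  have hH := pr.le
  rw [← hcoe] at hH hadj
  have hr4 := h.ppF hF
  have hq := Finite.one_lt_card (α := F)
  have hrodd : Odd r := hr4.odd (by omega)
  have i₁ := iso_of hF h (pr.le pr.mem₁) pr.pow₁
  have huc := H781.O8.comm_odd hK (hHK pr.mem₁) hrodd pr.pow₁
  have huc2 := H781.O8.comm_odd hK (hHK pr.mem₂) hrodd pr.pow₂
  have hrd : r ∣ Fintype.card F ^ 2 + 1 := by
    rw [← Nat.card_eq_fintype_card]
    have h2 : r ∣ Nat.card F ^ 4 - 1 := (hr4.dvd_iff (by omega) 4).2 dvd_rfl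
    have h3 : ¬ r ∣ Nat.card F ^ 2 - 1 := fun h3 => by
      have := (hr4.dvd_iff (by omega) 2).1 h3
      omega
    have e : Nat.card F ^ 4 - 1 = (Nat.card F ^ 2 + 1) * (Nat.card F ^ 2 - 1) := by
      have h5 := Nat.sq_sub_sq (Nat.card F ^ 2) 1
      rw [one_pow, ← pow_mul] at h5
      exact h5
    rw [e] at h2
    exact (h.prim.prime.dvd_mul.1 h2).resolve_right h3
  have hx : lin g₁ ^ (Fintype.card F ^ 2 + 1) = 1 := by
    obtain ⟨c, hc⟩ := hrd
    rw [hc, pow_mul, i₁.pow, one_pow]
  have hsa : ∀ k ∈ K, ∀ u v : I8 → F, polar (quadPlus 4 F) (k *ᵥ u) v = polar (quadPlus 4 F) u (k *ᵥ v) :=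
    fun k hk u v => H781.O8.self_adj hQ hK hadj i₁ hr4 pr.dim₁ (by omega) hx huc hk u v
  letI := fieldOf hK
  have hKfin : Finite K := Module.finite_of_finite F
  letI : Fintype K := Fintype.ofFinite K
  have hsm : ∀ (k : K) (x : I8 → F), k • x = (k : Matrix I8 I8 F) *ᵥ x := fun k x => rfl
  -- alternating forms in characteristic two
  have hal : (2 : F) = 0 → ∀ (k : K) (v : I8 → F), polar (quadPlus 4 F) (k • v) v = 0 := by
    intro h2 k
    have hadd : ∀ u v : I8 → F, polar (quadPlus 4 F) (k • (u + v)) (u + v) =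
        polar (quadPlus 4 F) (k • u) u + polar (quadPlus 4 F) (k • v) v := by
      intro u v
      have h3 : polar (quadPlus 4 F) (k • v) u = polar (quadPlus 4 F) (k • u) v := by
        rw [hsm, hsm, hsa k k.2 v u, polar_comm]
      rw [smul_add, polar_add_left, polar_add_right, polar_add_right, h3]
      linear_combination (polar (quadPlus 4 F) (k • u) v) * h2
    have hsmul : ∀ (c : F) (v : I8 → F), polar (quadPlus 4 F) (k • (c • v)) (c • v) =
        c * c * polar (quadPlus 4 F) (k • v) v := by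
      intro c v
      rw [smul_comm, polar_smul_left, polar_smul_right, smul_eq_mul, smul_eq_mul, mul_assoc]
    let N : Submodule F (I8 → F) :=
      { carrier := {v | polar (quadPlus 4 F) (k • v) v = 0}
        add_mem' := by
          intro u v hu hv
          rw [Set.mem_ofPred_eq] at hu hv ⊢
          rw [hadd, hu, hv, add_zero]
        zero_mem' := by
          rw [Set.mem_ofPred_eq, polar_zero_right]
        smul_mem' := by
          intro e v hv
          rw [Set.mem_ofPred_eq] at hv ⊢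
          rw [hsmul, hv, mul_zero] }
    have hN : ∀ v, v ∈ N ↔ polar (quadPlus 4 F) (k • v) v = 0 := fun v => Iff.rfl
    have hNcard : Nat.card (I8 → F) ≤ Nat.card N * Nat.card F := by
      let φ : (I8 → F) →+ F :=
        { toFun := fun v => polar (quadPlus 4 F) (k • v) v
          map_zero' := by rw [polar_zero_right]
          map_add' := hadd }
      have h1 : Nat.card (I8 → F) = Nat.card φ.ker * Nat.card φ.range := by
        rw [← AddSubgroup.card_mul_index φ.ker, AddSubgroup.index_ker]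
      have h2 : Nat.card φ.ker = Nat.card N := by
        refine Nat.card_congr (Equiv.subtypeEquivRight fun v => ?_)
        rw [AddMonoidHom.mem_ker]
        exact Iff.rfl
      rw [h1, h2]
      exact Nat.mul_le_mul_left _ (Nat.card_le_card_of_injective (Subtype.val : φ.range → F) Subtype.val_injective)
    have hinv : ∀ g ∈ H, (∀ x ∈ K, (g : Matrix I8 I8 F) * x = x * (g : Matrix I8 I8 F)) → Inv (lin g) N := by
      intro g hg hc v hv
      rw [hN] at hv ⊢
      have h3 : k • (lin g v) = lin g (k • v) := by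
        rw [hsm, hsm]
        change (k : Matrix I8 I8 F) *ᵥ ((g : Matrix I8 I8 F) *ᵥ v) = (g : Matrix I8 I8 F) *ᵥ ((k : Matrix I8 I8 F) *ᵥ v)
        rw [Matrix.mulVec_mulVec, Matrix.mulVec_mulVec, hc k k.2]
      have hiso : ∀ v, quadPlus 4 F (lin g v) = quadPlus 4 F v := lin_iso hH hg
      rw [h3, polar_isom hiso, hv]
    have h4 : Nat.card N = Nat.card F ^ finrank F N := Module.natCard_eq_pow_finrank
    have h5 : Nat.card (I8 → F) = Nat.card F ^ 8 := by
      rw [Module.natCard_eq_pow_finrank (K := F), Module.finrank_fintype_fun_eq_card]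
      simp
    rw [h4, h5, ← pow_succ] at hNcard
    have h6 := (Nat.pow_le_pow_iff_right hq).1 hNcard
    intro v
    rcases pr.inv_cases hF h (hinv g₁ pr.mem₁ huc) (hinv g₂ pr.mem₂ huc2) with h7 | h7 | h7 | h7
    · rw [h7, finrank_bot] at h6; omega
    · rw [h7, pr.dim₁] at h6; omega
    · rw [h7, pr.dim₂] at h6; omega
    · have : v ∈ N := by rw [h7]; exact Submodule.mem_top
      exact this
  obtain ⟨H1, hle, hdvd, hc⟩ := card_comm hK hHK
  refine hdvd.trans (mul_dvd_mul_left 2 ?_)
  have h2 : 2 * finrank K (I8 → F) = Fintype.card I8 := finrank_mul hK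
  have h8 : Fintype.card I8 = 8 := by simp
  have h9 : finrank K (I8 → F) = 4 := by omega
  have hKc : Nat.card K = (p ^ a) ^ 2 := by
    rw [Module.natCard_eq_pow_finrank (K := F), hK.finrank_eq, hF]
  let A : Subgroup ((I8 → F) ≃ₗ[F] (I8 → F)) := H1.map (glEquiv I8 F).toMonoidHom
  have hA : Nat.card H1 = Nat.card A := by
    rw [Subgroup.card_map_of_injective (glEquiv I8 F).injective]
  have hmem : ∀ x ∈ A, ∃ g ∈ H1, ∀ v, x v = lin g v := by
    rintro x ⟨g, hg, rfl⟩
    exact ⟨g, hg, fun v => rfl⟩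
  rw [hA, ← hKc]
  refine card_centralizer (K := K) (A := A) hQ (fun k u v => hsa k k.2 u v) hal h9 ?_ ?_
  · intro x hx
    obtain ⟨g, hg, hgx⟩ := hmem x hx
    intro v
    have hiso : ∀ v, quadPlus 4 F (lin g v) = quadPlus 4 F v := lin_iso hH (hle hg)
    rw [hgx, hiso]
  · intro x hx k v
    obtain ⟨g, hg, hgx⟩ := hmem x hx
    rw [hgx, hgx, hsm, hsm]
    change (g : Matrix I8 I8 F) *ᵥ ((k : Matrix I8 I8 F) *ᵥ v) = (k : Matrix I8 I8 F) *ᵥ ((g : Matrix I8 I8 F) *ᵥ v)
    rw [Matrix.mulVec_mulVec, Matrix.mulVec_mulVec, hc g hg k k.2]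

end Cfsg.Agent.H683.O8R
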