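import Cfsg.Agent.H683.O8R.FourOf
import Cfsg.Agent.S0000

/-!
# S3691, `PΩ₈⁺(q)`: box F4 with the classification (helper683)
-/

set_option autoImplicit false

namespace Cfsg.Agent.H683.O8R

open Cfsg Cfsg.Geo Cfsg.Agent.H708.O8 Cfsg.Agent.H823.O8R

/-- **(F4)** -/
theorem f4 {F : Type} [Field F] [Fintype F] {p a r b s k t : ℕ} {R : Subgroup (T8 F)} (hF : Nat.card F = p ^ a)
    (h : Nm p a r b s k t) (hR : R ≠ ⊤) (hd : r ^ (b + 1) ∣ Nat.card R) :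
    ¬ s ∣ Nat.card R ∧ ¬ t ∣ Nat.card R ∧ (Nat.card R).factorization p ≤ 4 * a + (if p = 2 then 3 else 0) :=
  f4_of (fun _ _ _ _ => Cfsg.Agent.S0000.result) hF h hR hd

end Cfsg.Agent.H683.O8R
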