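import Cfsg.Agent.H683.O8R.FieldCard
import Cfsg.Agent.H823.O8R.Defs

/-!
# S3691, `PΩ₈⁺(q)`: subgroups with noncyclic Sylow `r₄`-subgroups (box F4, helper683)
-/

set_option autoImplicit false
set_option linter.unusedSectionVars false

namespace Cfsg.Agent.H683.O8R

open Module QuadraticMap Cfsg Cfsg.Geo Cfsg.Agent.LieClassical.OrthCore Cfsg.Agent.H955 Cfsg.Agent.H954.TSing
open Cfsg.Agent.LieClassical.OmegaReindex Cfsg.Agent.H915.LD
open Cfsg.Agent.H951 (fx cm Inv)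
open Cfsg.Agent.H884.El
open Cfsg.Agent.H708.O8
open Cfsg.Agent.H436 (Prim)
open Cfsg.Agent.H823.O8R (Nm)
open scoped MatrixGroups Matrix

variable {F : Type} [Field F] [Fintype F] {p a r b s k t : ℕ} {R : Subgroup (T8 F)}

/-- **divisors of the order** -/
theorem card_four (hKn : ∀ (X : Type) [Group X] [Finite X] [IsSimpleGroup X], Cfsg.IsKnownSimple' X)
    (hF : Nat.card F = p ^ a) (h : RB p a r b) (h4 : 4 ≤ p ^ a) (hR : R ≠ ⊤) (hd : r ^ (b + 1) ∣ Nat.card R) :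
    Nat.card R ∣ 2 * ((2 * (p ^ a) ^ 2 * ((p ^ a) ^ 4 - 1) ^ 2) * (2 * (p ^ a) ^ 2 * ((p ^ a) ^ 4 - 1) ^ 2)) ∨
      Nat.card R ∣ 2 * (2 * ((p ^ a) ^ 2) ^ 2 * (((p ^ a) ^ 2) ^ 4 - 1) ^ 2) := by
  have hcp : Nat.card R ∣ Nat.card (pre (quadFormPlus 4 F) R) := card_dvd_pre
  obtain ⟨g₁, g₂, pr⟩ := exists_pair_pre hF h hd
  rcases geo4 hF h (hd.trans hcp) pr with ⟨P, hP, -⟩ | hsw | ⟨K, hK1, hK2, hK3⟩
  · exfalso
    obtain ⟨S, hSn, hSs, hna, hC, ⟨e⟩⟩ := H264.FKS.exists_res_plus le_rfl (M := R) hP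
    by_cases hL : IsLieTypeChar p (Soc P)
    · exact H659.O8.own_card hF h hR S hSs hna hC hP e hL hd
    · have := hP.simple
      exact H105.O8.cross_card hF h4 h S hSs hna hC hP e hL (hKn (Soc P)) hd
  · exact Or.inl (hcp.trans (card_swap hF h pr hsw))
  · exact Or.inr (hcp.trans (card_field hF h pr hK1 hK2 hK3))

theorem num_four {N : ℕ} (h : Nm p a r b s k t)
    (hN : N ∣ 2 * ((2 * (p ^ a) ^ 2 * ((p ^ a) ^ 4 - 1) ^ 2) * (2 * (p ^ a) ^ 2 * ((p ^ a) ^ 4 - 1) ^ 2)) ∨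
      N ∣ 2 * (2 * ((p ^ a) ^ 2) ^ 2 * (((p ^ a) ^ 2) ^ 4 - 1) ^ 2)) :
    ¬ s ∣ N ∧ ¬ t ∣ N ∧ N.factorization p ≤ 4 * a + (if p = 2 then 3 else 0) := by
  have hp := h.rb.hp
  have ha := h.rb.ha
  have h1 : ((p ^ a) ^ 2) ^ 4 - 1 = p ^ (8 * a) - 1 := by
    rw [← pow_mul, ← pow_mul]
    congr 2
    ring
  have h2 : (p ^ a) ^ 4 - 1 ∣ p ^ (8 * a) - 1 := by
    have h3 : p ^ (8 * a) = ((p ^ a) ^ 4) ^ 2 := by
      rw [← pow_mul, ← pow_mul]
      congr 1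
      ring
    have h4 := Nat.sub_dvd_pow_sub_pow ((p ^ a) ^ 4) 1 2
    rwa [one_pow, ← h3] at h4
  have hq : (p ^ a) ^ 4 = p ^ (4 * a) := by rw [← pow_mul, mul_comm]
  have hN' : N ∣ 8 * p ^ (4 * a) * (p ^ (8 * a) - 1) ^ 4 := by
    rcases hN with h3 | h3
    · refine h3.trans ?_
      obtain ⟨c, hc⟩ := h2
      rw [hc, ← hq]
      exact ⟨c ^ 4, by ring⟩
    · refine h3.trans ?_
      rw [h1, ← hq]
      exact ⟨2 * (p ^ (8 * a) - 1) ^ 2, by ring⟩
  have key : ∀ {e x : ℕ}, Prim p e x → ¬ e ∣ 8 * a → 3 ≤ e → ¬ x ∣ N := by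
    intro e x hx he he3 hd
    have h5 := hd.trans hN'
    rcases hx.prime.dvd_mul.1 h5 with h6 | h6
    · rcases hx.prime.dvd_mul.1 h6 with h7 | h7
      · have h8 : x ∣ 2 ^ 3 := h7
        exact hx.not_dvd_two he3 (hx.prime.dvd_of_dvd_pow h8)
      · exact hx.not_dvd_pow _ h7
    · exact hx.not_dvd_sub he (hx.prime.dvd_of_dvd_pow h6)
  refine ⟨key h.rk.prim ?_ (by omega), key h.t ?_ (by omega), ?_⟩
  · rintro ⟨c, hc⟩
    have : 6 * c = 8 := by
      apply Nat.eq_of_mul_eq_mul_left (show 0 < a by omega)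
      rw [show a * 8 = 8 * a from mul_comm _ _, hc]
      ring
    omega
  · rintro ⟨c, hc⟩
    have : 3 * c = 8 := by
      apply Nat.eq_of_mul_eq_mul_left (show 0 < a by omega)
      rw [show a * 8 = 8 * a from mul_comm _ _, hc]
      ring
    omega
  · have h8a : p ^ (8 * a) - 1 ≠ 0 := by
      have : 1 < p ^ (8 * a) := Nat.one_lt_pow (by omega) hp.one_lt
      omega
    have hne : 8 * p ^ (4 * a) * (p ^ (8 * a) - 1) ^ 4 ≠ 0 :=
      mul_ne_zero (mul_ne_zero (by norm_num) (pow_ne_zero _ hp.ne_zero)) (pow_ne_zero _ h8a)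
    have hN0 : N ≠ 0 := fun h0 => hne (by rw [h0] at hN'; exact Nat.eq_zero_of_zero_dvd hN')
    have h9 := (Nat.factorization_le_iff_dvd hN0 hne).2 hN' p
    refine h9.trans ?_
    have h10 : ¬ p ∣ p ^ (8 * a) - 1 := by
      intro hd
      have h11 : p ∣ p ^ (8 * a) := dvd_pow_self p (by omega)
      have h12 := (Nat.dvd_sub h11 hd)
      rw [Nat.sub_sub_self (Nat.one_le_pow _ _ hp.pos)] at h12
      exact hp.one_lt.ne' (Nat.dvd_one.1 h12)
    rw [Nat.factorization_mul (mul_ne_zero (by norm_num) (pow_ne_zero _ hp.ne_zero)) (pow_ne_zero _ h8a),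
      Nat.factorization_mul (by norm_num) (pow_ne_zero _ hp.ne_zero), Nat.factorization_pow, Nat.factorization_pow, hp.factorization]
    simp only [Finsupp.add_apply, Finsupp.smul_apply, Finsupp.single_eq_same, smul_eq_mul, mul_one]
    rw [Nat.factorization_eq_zero_of_not_dvd h10]
    have h13 : (8 : ℕ).factorization p ≤ if p = 2 then 3 else 0 := by
      rw [show (8 : ℕ) = 2 ^ 3 from rfl, Nat.prime_two.factorization_pow]
      by_cases h2 : p = 2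
      · subst h2
        simp
      · rw [if_neg h2, Finsupp.single_eq_of_ne (by omega)]
    omega

/-- **(F4)** -/
theorem f4_of (hKn : ∀ (X : Type) [Group X] [Finite X] [IsSimpleGroup X], Cfsg.IsKnownSimple' X)
    (hF : Nat.card F = p ^ a) (h : Nm p a r b s k t) (hR : R ≠ ⊤) (hd : r ^ (b + 1) ∣ Nat.card R) :
    ¬ s ∣ Nat.card R ∧ ¬ t ∣ Nat.card R ∧ (Nat.card R).factorization p ≤ 4 * a + (if p = 2 then 3 else 0) :=
  num_four h (card_four hKn hF h.rb (by have := h.q16; omega) hR hd)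

end Cfsg.Agent.H683.O8R
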