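import Cfsg.Agent.H683.O8R.Pair

/-!
# S3691, `PΩ₈⁺(q)`: geometric classes of the subgroups with noncyclic Sylow `r`-subgroups (helper683)
-/

set_option autoImplicit false
set_option linter.unusedSectionVars false

namespace Cfsg.Agent.H683.O8R

open Module QuadraticMap Cfsg Cfsg.Geo Cfsg.Agent.LieClassical.OrthCore Cfsg.Agent.H955 Cfsg.Agent.H954.TSing
open Cfsg.Agent.LieClassical.OmegaReindex
open Cfsg.Agent.H951 (fx cm Inv)
open Cfsg.Agent.H884.El
open Cfsg.Agent.H708.O8
open Cfsg.Agent.H436 (Prim)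
open scoped MatrixGroups Matrix

variable {F : Type} [Field F] [Fintype F] {p a r b : ℕ} {H : Subgroup (GL I8 F)} {g₁ g₂ : GL I8 F}

theorem Pair.ne₁ (pr : Pair H g₁ g₂ r) : g₁ ≠ 1 := by
  rintro rfl
  have h1 := pr.dim₁
  rw [lin_one'] at h1
  have : cm (1 : Module.End F (I8 → F)) = ⊥ := by
    unfold H951.cm
    rw [sub_self, LinearMap.range_zero]
  rw [this, finrank_bot] at h1
  omega

theorem Pair.disj (hF : Nat.card F = p ^ a) (h : RB p a r b) (pr : Pair H g₁ g₂ r) :
    cm (lin g₁) ⊓ cm (lin g₂) = ⊥ := by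
  have i₁ := iso_of hF h (pr.le pr.mem₁) pr.pow₁
  rw [pr.cm₂]
  exact H951.inf_fx_of_le_cm i₁.ne0 i₁.pow le_rfl

theorem Pair.codisj (hF : Nat.card F = p ^ a) (h : RB p a r b) (pr : Pair H g₁ g₂ r) :
    cm (lin g₁) ⊔ cm (lin g₂) = ⊤ := by
  have i₁ := iso_of hF h (pr.le pr.mem₁) pr.pow₁
  rw [pr.cm₂, sup_comm]
  exact (H951.isCompl_fx_cm i₁.ne0 i₁.pow).sup_eq_top

/-- the subspaces invariant under the pair -/
theorem Pair.inv_cases (hF : Nat.card F = p ^ a) (h : RB p a r b) (pr : Pair H g₁ g₂ r) {W : Submodule F (I8 → F)}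
    (h1 : Inv (lin g₁) W) (h2 : Inv (lin g₂) W) : W = ⊥ ∨ W = cm (lin g₁) ∨ W = cm (lin g₂) ∨ W = ⊤ := by
  have hr := h.ppF hF
  have i₁ := iso_of hF h (pr.le pr.mem₁) pr.pow₁
  have i₂ := iso_of hF h (pr.le pr.mem₂) pr.pow₂
  rcases i₁.le_or hr pr.dim₁ h1 with k1 | k1 <;> rcases i₂.le_or hr pr.dim₂ h2 with k2 | k2
  · left
    rw [← pr.cm₂] at k1
    rw [pr.fx₂] at k2
    have := le_inf k2 k1
    rwa [pr.disj hF h, le_bot_iff] at this
  · right; right; left
    rw [← pr.cm₂] at k1
    exact le_antisymm k1 k2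
  · right; left
    rw [pr.fx₂] at k2
    exact le_antisymm k2 k1
  · right; right; right
    have := sup_le k1 k2
    rwa [pr.codisj hF h, top_le_iff] at this

/-- each element fixes or exchanges the two 4-spaces -/
def Swap (H : Subgroup (GL I8 F)) (g₁ g₂ : GL I8 F) : Prop :=
  ∀ g ∈ H, tr g (cm (lin g₁)) = cm (lin g₁) ∨ tr g (cm (lin g₁)) = cm (lin g₂)

/-- `g` is a power of its square -/
theorem inv_of_fix {D : Fin 2 → Submodule F (I8 → F)} (hHD : H ≤ decompositionStabilizer D)
    {g : GL I8 F} (hg : g ∈ H) (hr : Odd r) (hgr : g ^ r = 1) (i : Fin 2) : Inv (lin g) (D i) := by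
  have h1 := fix_of_sq hHD hg (k := r + 1) (fun τ => by
    have h2 : Even (r + 1) := hr.add_one
    obtain ⟨c, hc⟩ := h2
    rw [hc, ← two_mul, pow_mul]
    have : τ ^ 2 = 1 := by revert τ; decide
    rw [this, one_pow]) i
  rwa [pow_succ, hgr, one_mul] at h1

theorem tr_eq_of_stab {g : GL I8 F} {W : Submodule F (I8 → F)} (h : g ∈ subspaceStabilizer W) : tr g W = W := by
  apply Submodule.eq_of_le_of_finrank_eq
  · rintro _ ⟨w, hw, rfl⟩
    exact inv_of_mem h w hw
  · rw [finrank_tr]

/-- **The geometric classes.** -/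
theorem geo4 (hF : Nat.card F = p ^ a) (h : RB p a r b) (hr2 : r ^ (b + 1) ∣ Nat.card H) (pr : Pair H g₁ g₂ r) :
    InOrthogonalResidualClass H ∨ Swap H g₁ g₂ ∨ ∃ K : Subalgebra F (Matrix I8 I8 F), IsFieldSubalgebra 2 K ∧
      IsAdjointClosedFor (polar (quadFormPlus 4 F)) K ∧ H ≤ subalgebraNormalizer K := by
  have hQ : Nondeg (quadPlus 4 F) := nondeg_iff.2 quadPlus_nondegenerate
  have hcoe : ⇑(quadPlus 4 F) = quadFormPlus 4 F := coe_quadPlus 4 F
  have hn : Fintype.card (Fin 4 ⊕ Fin 4) = 8 := by simp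
  have hfin : finrank F (Fin 4 ⊕ Fin 4 → F) = 8 := by rw [finrank_V, hn]
  have hfin' : finrank F (I8 → F) = 8 := hfin
  have h5 := h.five
  have hP := h.ppF hF
  have hodd : Odd r := hP.prime.odd_of_ne_two (by omega)
  have hH := pr.le
  rw [← hcoe] at hH
  have hrc : r ∣ Nat.card H := (dvd_pow_self r (by omega)).trans hr2
  have i₁ := iso_of hF h (pr.le pr.mem₁) pr.pow₁
  have i₂ := iso_of hF h (pr.le pr.mem₂) pr.pow₂
  have hinv : ∀ W : Submodule F (I8 → F), (∀ g ∈ H, Inv (lin g) W) → W = ⊥ ∨ W = cm (lin g₁) ∨ W = cm (lin g₂) ∨ W = ⊤ :=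
    fun W hW => pr.inv_cases hF h (hW _ pr.mem₁) (hW _ pr.mem₂)
  have hnd1 : Nondeg (res (quadPlus 4 F) (cm (lin g₁))) := nondeg_cm hQ i₁.iso i₁.ne0 i₁.pow
  have hnd2 : Nondeg (res (quadPlus 4 F) (cm (lin g₂))) := nondeg_cm hQ i₂.iso i₂.ne0 i₂.pow
  have hne1 : cm (lin g₁) ≠ ⊥ := fun h0 => by
    have := pr.dim₁
    rw [h0, finrank_bot] at this
    omega
  have hne2 : cm (lin g₂) ≠ ⊥ := fun h0 => by
    have := pr.dim₂
    rw [h0, finrank_bot] at this
    omega
  -- the product
  have hcomm : ∀ v, lin g₁ (lin g₂ v) = lin g₂ (lin g₁ v) := by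
    intro v
    have hv : v ∈ cm (lin g₁) ⊔ cm (lin g₂) := by rw [pr.codisj hF h]; exact Submodule.mem_top
    obtain ⟨x, hx, y, hy, rfl⟩ := Submodule.mem_sup.1 hv
    have hx2 : lin g₂ x = x := H951.mem_fx.1 (by rw [pr.fx₂]; exact hx)
    have hy1 : lin g₁ y = y := H951.mem_fx.1 (by rw [← pr.cm₂]; exact hy)
    have hx3 : lin g₂ (lin g₁ x) = lin g₁ x :=
      H951.mem_fx.1 (by rw [pr.fx₂]; exact inv_cm_of_comm (Commute.refl _) x hx)
    have hy3 : lin g₁ (lin g₂ y) = lin g₂ y :=
      H951.mem_fx.1 (by rw [← pr.cm₂]; exact inv_cm_of_comm (Commute.refl _) y hy)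
    rw [map_add, map_add, map_add, map_add, hx2, hy1, hx3, hy3]
  have hcg : g₁ * g₂ = g₂ * g₁ := by
    apply Units.ext
    apply Matrix.toLin'.injective
    apply LinearMap.ext
    intro v
    have h1 := hcomm v
    have e1 : lin (g₁ * g₂) v = lin g₁ (lin g₂ v) := by rw [lin_mul]; rfl
    have e2 : lin (g₂ * g₁) v = lin g₂ (lin g₁ v) := by rw [lin_mul]; rfl
    exact e1.trans (h1.trans e2.symm)
  have hyH : g₁ * g₂ ∈ H := H.mul_mem pr.mem₁ pr.mem₂
  have hnr : (g₁ * g₂) ^ r = 1 := by
    have : Commute g₁ g₂ := hcg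
    rw [this.mul_pow, pr.pow₁, pr.pow₂, one_mul]
  have hyiso := iso_of hF h (pr.le hyH) hnr
  have hyfx : fx (lin (g₁ * g₂)) = ⊥ := by
    rw [eq_bot_iff]
    intro v hv
    rw [H951.mem_fx] at hv
    have hv' : v ∈ cm (lin g₁) ⊔ cm (lin g₂) := by rw [pr.codisj hF h]; exact Submodule.mem_top
    obtain ⟨x, hx, y, hy, rfl⟩ := Submodule.mem_sup.1 hv'
    have hx2 : lin g₂ x = x := H951.mem_fx.1 (by rw [pr.fx₂]; exact hx)
    have hy3 : lin g₁ (lin g₂ y) = lin g₂ y :=
      H951.mem_fx.1 (by rw [← pr.cm₂]; exact inv_cm_of_comm (Commute.refl _) y hy)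
    have e1 : lin (g₁ * g₂) (x + y) = lin g₁ x + lin g₂ y := by
      rw [lin_mul, Module.End.mul_apply, map_add, hx2, map_add, hy3]
    rw [e1] at hv
    have e2 : lin g₁ x - x = y - lin g₂ y := by
      rw [sub_eq_sub_iff_add_eq_add, hv, add_comm]
    have m1 : lin g₁ x - x ∈ cm (lin g₁) := Submodule.sub_mem _ (inv_cm_of_comm (Commute.refl _) x hx) hx
    have m2 : y - lin g₂ y ∈ cm (lin g₂) := Submodule.sub_mem _ hy (inv_cm_of_comm (Commute.refl _) y hy)
    have m3 : lin g₁ x - x ∈ cm (lin g₁) ⊓ cm (lin g₂) := ⟨m1, by rw [e2]; exact m2⟩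
    rw [pr.disj hF h] at m3
    have z1 : lin g₁ x - x = 0 := (Submodule.mem_bot F).1 m3
    have z2 : y - lin g₂ y = 0 := by rw [← e2, z1]
    have f1 : x ∈ cm (lin g₁) ⊓ fx (lin g₁) := ⟨hx, H951.mem_fx.2 (sub_eq_zero.1 z1)⟩
    rw [H951.inf_fx_of_le_cm i₁.ne0 i₁.pow le_rfl] at f1
    have f2 : y ∈ cm (lin g₂) ⊓ fx (lin g₂) := ⟨hy, H951.mem_fx.2 (sub_eq_zero.1 z2).symm⟩
    rw [H951.inf_fx_of_le_cm i₂.ne0 i₂.pow le_rfl] at f2
    rw [(Submodule.mem_bot F).1 f1, (Submodule.mem_bot F).1 f2, add_zero]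
    exact Submodule.zero_mem _
  -- a totally singular subspace invariant under `g₁`
  have hgadd : finrank F (fx (lin g₁)) = 4 := by rw [← pr.cm₂]; exact pr.dim₂
  have hts : ∀ W : Submodule F (I8 → F), TS (quadPlus 4 F) W → Inv (lin g₁) W → finrank F W ≠ 4 := by
    intro W hWs hW hd
    have h1 := i₁.ts_le hQ (lin_ne_one pr.ne₁) hP pr.dim₁ hW hWs
    have h3 : W = fx (lin g₁) := Submodule.eq_of_le_of_finrank_eq h1 (by omega)
    refine ts_not_nondeg hWs h3.ge ?_ (nondeg_fx hQ i₁.iso i₁.ne0 i₁.pow)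
    rw [← h3]
    intro h4
    rw [h4, finrank_bot] at hd
    omega
  by_cases hirr : ActsIrreducibly (matrixSet H)
  · rcases Cfsg.Agent.H925.orth_irreducible_fine (by omega) (Cfsg.Agent.H884.OddForm.isNondegenerate_of_nondeg _ hQ) hH hirr with
      ⟨t, k, D, htk, hD, hHD, -⟩ | ⟨k, D, hk, hD, hDs, hHD⟩ | ⟨s, K, hs, hsn, hK, hadj, hHK⟩ |
      ⟨n₁, n₂, e, P, -, -, -, h1, h1', h12, -, -, -, -, hHT⟩ | ⟨F₁, s, B, -, -, hs, hcard, -, -, hHF⟩ |
      ⟨s, m, R, hRH, -, hHR, habs, hR, hchar, hm, hsm, -, ht, -⟩ | ⟨k, t, e, P, E, hkt, hW⟩ | hS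
    · have h2t := hD.decomp.decomp.two_le
      have hkpos := hD.decomp.decomp.pos
      have hinj : Function.Injective D := by
        intro i j hij
        by_contra hne
        have h1 := disjoint_iff.1 (hD.decomp.decomp.indep.pairwiseDisjoint hne)
        have h2 : D i ⊓ D j = ⊥ := h1
        rw [← hij, inf_idem] at h2
        have h3 := hD.decomp.decomp.finrank_eq i
        rw [h2, finrank_bot] at h3
        omega
      by_cases hk4 : k < 4
      · exfalso
        have hrt := decomp_le hD.decomp.decomp hHD hP hk4 hrc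
        -- `k = 1`, `t = 8`
        have hk1 : k = 1 := by
          by_contra hcon
          have h3 : 2 ≤ k := by omega
          have := Nat.mul_le_mul hrt h3
          omega
        subst hk1
        obtain ⟨i, hi⟩ := exists_fixed_block hinj hHD hyH hP.prime hnr (by
          intro hd
          rw [show t = 2 ^ 3 by omega] at hd
          have := (Nat.prime_dvd_prime_iff_eq hP.prime Nat.prime_two).1 (hP.prime.dvd_of_dvd_pow hd)
          omega)
        have h3 := hyiso.le_fx hP hi (by rw [hD.decomp.decomp.finrank_eq]; norm_num)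
        rw [hyfx] at h3
        have h4 := hD.decomp.decomp.finrank_eq i
        rw [le_bot_iff.1 h3, finrank_bot] at h4
        omega
      · have ht2 : t = 2 := by
          have h3 : t < 3 := by
            by_contra hcon
            push Not at hcon
            have := Nat.mul_le_mul hcon (not_lt.1 hk4)
            omega
          omega
        subst ht2
        have hk4' : k = 4 := by omega
        subst hk4'
        right; left
        have hDi : ∀ i, D i = cm (lin g₁) ∨ D i = cm (lin g₂) := by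
          intro i
          have hd := hD.decomp.decomp.finrank_eq i
          rcases pr.inv_cases hF h (inv_of_fix hHD pr.mem₁ hodd pr.pow₁ i)
            (inv_of_fix hHD pr.mem₂ hodd pr.pow₂ i) with h3 | h3 | h3 | h3
          · rw [h3, finrank_bot] at hd; omega
          · exact Or.inl h3
          · exact Or.inr h3
          · rw [h3, finrank_top] at hd
            have : finrank F (I8 → F) = 4 := hd
            omega
        obtain ⟨i, hi⟩ : ∃ i, D i = cm (lin g₁) := by
          by_contra hcon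
          push Not at hcon
          have h3 := (hDi 0).resolve_left (hcon 0)
          have h4 := (hDi 1).resolve_left (hcon 1)
          exact absurd (hinj (h3.trans h4.symm)) (by decide)
        intro g hg
        obtain ⟨σ, hσ⟩ := hHD hg
        have h3 : tr g (cm (lin g₁)) = D (σ i) := by rw [← hi]; exact hσ i
        rw [h3]
        exact hDi _
    · exfalso
      have h1 := inv_of_fix hHD pr.mem₁ hodd pr.pow₁ 0
      exact hts (D 0) (hDs 0) h1 (by rw [hD.finrank_eq]; omega)
    · right; right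
      rw [hn] at hsn
      have hs2 : s = 2 := by
        have : s ∣ 2 ^ 3 := hsn
        exact (Nat.prime_dvd_prime_iff_eq hs Nat.prime_two).1 (hs.dvd_of_dvd_pow this)
      subst hs2
      rw [hcoe] at hadj
      exact ⟨K, hK, hadj, hHK⟩
    · exfalso
      have h2 : tensorProductSubgroup n₁ n₂ e P ≤ (kronGL e P).range := fun g hg => mem_range_kronGL e P hg
      have h3 : Nat.card H ∣ Nat.card (GL (Fin n₁) F × GL (Fin n₂) F) :=
        (Subgroup.card_dvd_of_le (hHT.trans h2)).trans (Subgroup.card_range_dvd _)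
      rw [Nat.card_prod] at h3
      have hcases : (n₁ = 2 ∧ n₂ = 4) ∨ (n₁ = 4 ∧ n₂ = 2) := by
        have h3 : n₁ ≤ 4 := by
          by_contra hcon
          push Not at hcon
          have := Nat.mul_le_mul hcon h1'
          omega
        interval_cases n₁ <;> omega
      rcases hcases with ⟨rfl, rfl⟩ | ⟨rfl, rfl⟩
      · exact tensor_num hF h (hr2.trans h3)
      · rw [mul_comm] at h3
        exact tensor_num hF h (hr2.trans h3)
    · exfalso
      exact H781.O8.kill_subf hF h hHF hs hcard pr.mem₁ pr.pow₁ pr.dim₁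
    · exfalso
      exact kill_symp hF h hRH hHR habs hR hm hsm ht ((pow_dvd_pow r (by have := h.b1; omega)).trans hr2)
    · exfalso
      have h2k := hW.two_le_m
      have h2t := hW.two_le_t
      have hk3 : k < 3 := by
        by_contra hcon
        push Not at hcon
        have h3 : 3 ^ 2 ≤ k ^ t := (Nat.pow_le_pow_left hcon 2).trans (Nat.pow_le_pow_right (by omega) h2t)
        omega
      have ht4 : t < 4 := by
        by_contra hcon
        push Not at hcon
        have h3 : 2 ^ 4 ≤ k ^ t := (Nat.pow_le_pow_left h2k 4).trans (Nat.pow_le_pow_right (by omega) hcon)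
        omega
      rcases H251.GeoCard.wreath e P hP.prime (hP.not_dvd (by omega))
        (hrc.trans (Subgroup.card_dvd_of_le hW.wreath)) with h | h
      · omega
      · have := le_of_div hP (one_lt_q F).le h
        omega
    · exact Or.inl hS
  · rcases Cfsg.Agent.H925.reducible_cases (Cfsg.Agent.H884.OddForm.isNondegenerate_of_nondeg _ hQ) hH hirr with
      ⟨W, hW0, hWs, hHW⟩ | ⟨W, hW0, hWn, hd, hHW⟩ | ⟨-, v, hv, hHW⟩
    · exfalso
      rcases hinv W (fun g hg => inv_of_mem (hHW hg)) with h1 | h1 | h1 | h1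
      · exact hW0 h1
      · exact ts_not_nondeg hWs h1.ge hne1 hnd1
      · exact ts_not_nondeg hWs h1.ge hne2 hnd2
      · exact ts_not_nondeg hWs (by rw [h1]; exact le_top) hne1 hnd1
    · rcases hinv W (fun g hg => inv_of_mem (hHW hg)) with h1 | h1 | h1 | h1
      · exact absurd h1 hW0
      · right; left
        intro g hg
        left
        rw [← h1]
        exact tr_eq_of_stab (hHW hg)
      · right; left
        intro g hg
        left
        have h2 : tr g (cm (lin g₂)) = cm (lin g₂) := by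
          rw [← h1]
          exact tr_eq_of_stab (hHW hg)
        -- `cm g₁` is the orthogonal complement of `cm g₂`
        have h3 : cm (lin g₁) = perp (quadPlus 4 F) (cm (lin g₂)) := by
          rw [perp_cm hQ i₂.iso i₂.ne0 i₂.pow, pr.fx₂]
        apply Submodule.eq_of_le_of_finrank_eq
        · rintro _ ⟨w, hw, rfl⟩
          rw [h3]
          intro y hy
          have h4 : y ∈ tr g (cm (lin g₂)) := by rw [h2]; exact hy
          obtain ⟨y', hy', rfl⟩ := h4
          have hiso : ∀ v, quadPlus 4 F (lin g v) = quadPlus 4 F v := lin_iso hH hg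
          rw [polar_isom hiso]
          rw [SetLike.mem_coe, h3] at hw
          exact hw y' hy'
        · rw [finrank_tr]
      · exfalso
        rw [h1, finrank_top, hn] at hd
        have : finrank F (I8 → F) ≤ 4 := by
          have : finrank F (Fin 4 ⊕ Fin 4 → F) ≤ 4 := by omega
          exact this
        omega
    · exfalso
      have hv0 : v ≠ 0 := by
        rintro rfl
        exact hv (QuadraticMap.map_zero _)
      have hs1 := finrank_span_singleton (K := F) hv0
      rcases hinv _ (fun g hg => inv_of_mem (hHW hg)) with h1 | h1 | h1 | h1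
      · rw [h1, finrank_bot] at hs1; omega
      · have := pr.dim₁
        rw [← h1] at this
        exact absurd (hs1.symm.trans this) (by norm_num)
      · have := pr.dim₂
        rw [← h1] at this
        exact absurd (hs1.symm.trans this) (by norm_num)
      · rw [h1, finrank_top] at hs1
        exact absurd (hs1.symm.trans hfin) (by norm_num)

end Cfsg.Agent.H683.O8R
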