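import Cfsg.Agent.H683.O8R.Tens

/-!
# S3691, `PΩ₈⁺(q)`, box F34: the geometric classes (helper683)
-/

set_option autoImplicit false
set_option linter.unusedSectionVars false

namespace Cfsg.Agent.H683.O8R

open Module QuadraticMap Cfsg Cfsg.Geo Cfsg.Agent.LieClassical.OrthCore Cfsg.Agent.H955 Cfsg.Agent.H954.TSing
open Cfsg.Agent.LieClassical.OmegaReindex
open Cfsg.Agent.H951 (fx cm Inv)
open Cfsg.Agent.H884.El
open Cfsg.Agent.H708.O8
open Cfsg.Agent.H436 (Prim)
open Cfsg.Agent.H823.O8R (Nm even_of_irr)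
open scoped MatrixGroups Matrix

variable {F : Type} [Field F] [Fintype F] {p a r b s k t : ℕ} {H : Subgroup (GL I8 F)}

/-- the totally singular case -/
def TS4 (H : Subgroup (GL I8 F)) (N t : ℕ) : Prop :=
  ∃ (H' : Subgroup (GL I8 F)) (W : Submodule F (I8 → F)), H' ≤ H ∧ N ∣ Nat.card H' ∧ t ∣ Nat.card H' ∧
    finrank F W = 4 ∧ TS (quadPlus 4 F) W ∧ H' ≤ subspaceStabilizer W

/-- the subfield case -/
def Sub2 (H : Subgroup (GL I8 F)) : Prop :=
  ActsIrreducibly (matrixSet H) ∧ ∃ (F₁ : Subfield F) (B : GL I8 F) (ζ : F), ζ ≠ 0 ∧ Nat.card F = Nat.card F₁ ^ 2 ∧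
    IsFormRationalStructure (polar (quadFormPlus 4 F)) F₁ ζ B ∧ H ≤ subfieldSubgroup F₁ B

/-- `t` does not divide `|GL₂(q)|` -/
theorem not_dvd_gl2 {t : ℕ} (ht : PP (Nat.card F) 3 t) : ¬ t ∣ Nat.card (GL (Fin 2) F) := by
  classical
  intro h
  have hq : 1 < Nat.card F := Finite.one_lt_card
  rw [Matrix.card_GL_field, Fin.prod_univ_two, ← Nat.card_eq_fintype_card] at h
  have h1 : ∀ i, 0 < i → i < 3 → ¬ t ∣ Nat.card F ^ i - 1 := by
    intro i hi hi3 h2
    have := Nat.le_of_dvd hi ((ht.dvd_iff hq.le i).1 h2)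
    omega
  rcases ht.prime.dvd_mul.1 h with h2 | h2
  · exact h1 2 (by norm_num) (by norm_num) (by simpa using h2)
  · have h3 : Nat.card F ^ 2 - Nat.card F ^ 1 = Nat.card F * (Nat.card F ^ 1 - 1) := by
      rw [pow_one, Nat.mul_sub, mul_one, pow_two]
    have h4 : t ∣ Nat.card F * (Nat.card F ^ 1 - 1) := by
      rw [← h3]
      simpa using h2
    rcases ht.prime.dvd_mul.1 h4 with h5 | h5
    · exact ht.not_dvd (by norm_num) h5
    · exact h1 1 (by norm_num) (by norm_num) h5

/-- subfields of index at least three -/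
theorem sub_two (hF : Nat.card F = p ^ a) (h : RB p a r b) {F₁ : Subfield F} {B : GL I8 F} (hH : H ≤ subfieldSubgroup F₁ B)
    {s : ℕ} (hs : s.Prime) (hcard : Nat.card F = Nat.card F₁ ^ s) (hd : r ∣ Nat.card H) : s = 2 := by
  have hq := Finite.one_lt_card (α := F)
  have hr4 := h.ppF hF
  have hp := h.hp
  have ha := h.ha
  have hrp : ¬ r ∣ Nat.card F - 1 := by
    intro h1
    have h2 := (hr4.dvd_iff (by omega) 1).1 (by rwa [pow_one])
    omega
  obtain ⟨c, -, hc⟩ : ∃ c ≤ a, Nat.card F₁ = p ^ c := by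
    have h1 : Nat.card F₁ ∣ p ^ a := by rw [← hF, hcard]; exact dvd_pow_self _ hs.ne_zero
    exact (Nat.dvd_prime_pow hp).1 h1
  have hac : a = c * s := by
    have h1 : p ^ a = p ^ (c * s) := by rw [← hF, hcard, hc, pow_mul]
    exact Nat.pow_right_injective hp.two_le h1
  have hc1 : 1 ≤ c := by
    rcases Nat.eq_zero_or_pos c with rfl | h
    · rw [zero_mul] at hac; omega
    · exact h
  have hrF : ¬ r ∣ Nat.card F := hr4.not_dvd (by norm_num)
  rcases H251.GeoCard.subfield h.prim.prime hrF (hd.trans (Subgroup.card_dvd_of_le hH)) with h1 | h1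
  · exact absurd h1 hrp
  · obtain ⟨i, hi1, hi2, hi3⟩ := h1
    have hi8 : i ≤ 8 := by
      have : Fintype.card I8 = 8 := by simp
      omega
    rw [hc, ← pow_mul, h.prim.dvd_iff] at hi3
    have h2 := Nat.le_of_dvd (Nat.mul_pos hc1 hi1) hi3
    rw [hac] at h2
    have h3 : 4 * s ≤ 8 := by
      have h4 : c * (4 * s) ≤ c * 8 := by
        calc c * (4 * s) = 4 * (c * s) := by ring
          _ ≤ c * i := h2
          _ ≤ c * 8 := Nat.mul_le_mul_left _ hi8
      exact Nat.le_of_mul_le_mul_left h4 hc1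
    have := hs.two_le
    omega

/-- **the geometric classes for `r₄`, `r₃`** -/
theorem geo34 (hF : Nat.card F = p ^ a) (h : Nm p a r b s k t) (hH : H ≤ isometryGroup F (quadFormPlus 4 F))
    (hrb : r ^ b ∣ Nat.card H) (ht : t ∣ Nat.card H) (hfree : ∀ y ∈ H, orderOf y = r → fx (lin y) = ⊥) :
    InOrthogonalResidualClass H ∨ TS4 H (r ^ b) t ∨ Sub2 H := by
  have hb1 : 1 ≤ b := h.rb.b1
  have hr : r ∣ Nat.card H := (dvd_pow_self r (by omega)).trans hrb
  have hQ : Nondeg (quadPlus 4 F) := nondeg_iff.2 quadPlus_nondegenerate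
  have hcoe : ⇑(quadPlus 4 F) = quadFormPlus 4 F := coe_quadPlus 4 F
  have hn : Fintype.card (Fin 4 ⊕ Fin 4) = 8 := by simp
  have hfin : finrank F (Fin 4 ⊕ Fin 4 → F) = 8 := by rw [finrank_V, hn]
  have hH' := hH
  rw [← hcoe] at hH'
  have h5 := h.rb.five
  have hP3 : PP (Nat.card F) 3 t := H823.O8R.Nm.pp3 hF h
  have hP4 : PP (Nat.card F) 4 r := h.rb.ppF hF
  have hq := one_lt_q F
  have hfinG : Finite (GL I8 F) := inferInstance
  have htodd : Odd t := hP3.odd (by norm_num)
  have hrodd : Odd r := hP4.odd (by norm_num)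
  -- the elements
  obtain ⟨z, hzH, hziso, hzt, hz1⟩ := exists_elt hH' hP3 (by omega) ht
  obtain ⟨hzcm, -, -⟩ := hziso.odd_case hQ (lin_ne_one hz1) hP3 (by decide) (by rw [hfin]; norm_num)
  have hzadd := hziso.finrank_add
  obtain ⟨y, hyH, hyiso, hyr, hy1⟩ := exists_elt hH' hP4 (by omega) hr
  have hfr := Fact.mk h.rb.prim.prime
  have hyfx : fx (lin y) = ⊥ := hfree y hyH (orderOf_eq_prime hyr hy1)
  have hdim : ∀ W : Submodule F (I8 → F), Inv (lin y) W → 4 ∣ finrank F W := by
    intro W hW
    have h1 := H951.ord_dvd_finrank hyiso.pow hW (by rw [hyfx, inf_bot_eq])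
    rwa [ord_eq hP4] at h1
  -- a nondegenerate subspace invariant under `z` does not have dimension four
  have hznd : ∀ W : Submodule F (I8 → F), Nondeg (res (quadPlus 4 F) W) → Inv (lin z) W → finrank F W ≠ 4 := by
    intro W hWn hW hd
    have h1 := hziso.even_inf hW hWn
    have h3 := hziso.dvd hP3 hW
    have h4 := Submodule.finrank_mono (inf_le_left : W ⊓ cm (lin z) ≤ W)
    have h5 : finrank F ↥(W ⊓ cm (lin z)) = 0 := by
      obtain ⟨k, hk⟩ := h1
      obtain ⟨l, hl⟩ := h3
      omega
    have h6 := H951.finrank_inf_add hziso.ne0 hziso.pow hW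
    have h8 := Submodule.finrank_mono (inf_le_right : W ⊓ fx (lin z) ≤ fx (lin z))
    have hfin' : finrank F (I8 → F) = 8 := hfin
    rw [hfin'] at hzadd
    omega
  have hdim' : ∀ W : Submodule F (Fin 4 ⊕ Fin 4 → F), Inv (lin y) W → 4 ∣ finrank F W := hdim
  by_cases hirr : ActsIrreducibly (matrixSet H)
  · rcases Cfsg.Agent.H925.orth_irreducible_fine (by omega) (Cfsg.Agent.H884.OddForm.isNondegenerate_of_nondeg _ hQ) hH' hirr with
      ⟨t', k', D, htk, hD, hHD, -⟩ | ⟨k', D, hk', hD, hDs, hHD⟩ | ⟨s', K, hs', hsn, hK, hadj, hHK⟩ |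
      ⟨n₁, n₂, e, P, -, -, -, h1, h1', h12, -, -, -, -, hHT⟩ | ⟨F₁, s', B, ζ, -, hs', hcard, hζ, hrat, hHF⟩ |
      ⟨s', m, R, hRH, -, hHR, habs, hR, hchar, hm, hsm, -, ht', -⟩ | ⟨k', t', e, P, E, hkt, hW⟩ | hS
    · exfalso
      have h2t := hD.decomp.decomp.two_le
      have hkpos := hD.decomp.decomp.pos
      have hinj : Function.Injective D := by
        intro i j hij
        by_contra hne
        have h1 := disjoint_iff.1 (hD.decomp.decomp.indep.pairwiseDisjoint hne)
        have h2 : D i ⊓ D j = ⊥ := h1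
        rw [← hij, inf_idem] at h2
        have h3 := hD.decomp.decomp.finrank_eq i
        rw [h2, finrank_bot] at h3
        omega
      have ht8 : t' ∣ 8 := ⟨k', by rw [htk, hn]⟩
      obtain ⟨i, hi⟩ := exists_fixed_block hinj hHD hyH h.rb.prim.prime hyr (by
        intro hd
        have h3 : r ∣ 2 ^ 3 := hd.trans ht8
        have := (Nat.prime_dvd_prime_iff_eq h.rb.prim.prime Nat.prime_two).1 (h.rb.prim.prime.dvd_of_dvd_pow h3)
        omega)
      have h4 := hdim _ hi
      rw [hD.decomp.decomp.finrank_eq i] at h4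
      have hk4 : k' = 4 := by
        obtain ⟨c, hc⟩ := h4
        subst hc
        have h5 : t' * (4 * c) = 8 := by rw [htk, hn]
        have h6 : t' * c = 2 := by
          have : 4 * (t' * c) = 4 * 2 := by rw [show 4 * (t' * c) = t' * (4 * c) by ring, h5]
          exact Nat.eq_of_mul_eq_mul_left (by norm_num) this
        have h7 : c ∣ 2 := Dvd.intro_left _ h6
        have h8 := Nat.le_of_dvd (by norm_num) h7
        interval_cases c
        · omega
        · rfl
        · omega
      subst hk4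
      have ht2 : t' = 2 := by
        have : t' * 4 = 8 := by rw [htk, hn]
        omega
      subst ht2
      exact hznd (D 0) (nondeg_of_on (hD.decomp.nondegenerate 0)) (inv_of_fix hHD hzH htodd hzt 0)
        (hD.decomp.decomp.finrank_eq 0)
    · right; left
      have hk4 : k' = 4 := by
        rw [hn] at hk'
        omega
      subst hk4
      let H1 : Subgroup H := (subspaceStabilizer (D 0)).subgroupOf H
      have hinj : Function.Injective D := by
        intro i j hij
        by_contra hne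
        have h1 := disjoint_iff.1 (hD.indep.pairwiseDisjoint hne)
        have h2 : D i ⊓ D j = ⊥ := h1
        rw [← hij, inf_idem] at h2
        have h3 := hD.finrank_eq i
        rw [h2, finrank_bot] at h3
        omega
      have hmem : ∀ g ∈ H, ∀ σ : Equiv.Perm (Fin 2), (∀ i, (D i).map (Matrix.toLin' (g : Matrix I8 I8 F)) = D (σ i)) →
          σ 0 = 0 → g ∈ subspaceStabilizer (D 0) := by
        intro g hg σ hσ h0
        refine H884.OmegaGL.mem_subspaceStabilizer.2 fun w hw => ?_
        have h1 := hσ 0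
        rw [h0] at h1
        rw [← h1]
        exact ⟨w, hw, rfl⟩
      have hperm : ∀ σ τ : Equiv.Perm (Fin 2), σ 0 ≠ 0 → τ 0 ≠ 0 → (τ * σ) 0 = 0 := by decide
      have hcard2 : Nat.card H ∣ 2 * Nat.card H1 := by
        have key : ∀ a : H, a ∉ H1 → ∃ σ : Equiv.Perm (Fin 2),
            (∀ i, (D i).map (Matrix.toLin' ((a : GL I8 F) : Matrix I8 I8 F)) = D (σ i)) ∧ σ 0 ≠ 0 := by
          intro a ha
          obtain ⟨σ, hσ⟩ := hHD a.2
          exact ⟨σ, hσ, fun h0 => ha (hmem a a.2 σ hσ h0)⟩
        by_cases hall : ∀ a, a ∈ H1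
        · have : H1 = ⊤ := by ext x; exact ⟨fun _ => trivial, fun _ => hall x⟩
          rw [this, Subgroup.card_top]
          exact dvd_mul_left _ _
        · push Not at hall
          obtain ⟨a, ha⟩ := hall
          have h2 : H1.index = 2 := by
            rw [Subgroup.index_eq_two_iff]
            refine ⟨a, fun b => ?_⟩
            by_cases hb : b ∈ H1
            · exact Or.inr ⟨hb, fun h3 => ha ((Subgroup.mul_mem_cancel_left H1 hb).1 h3)⟩
            · refine Or.inl ⟨?_, hb⟩
              obtain ⟨σ, hσ, h0⟩ := key a ha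
              obtain ⟨τ, hτ, h0'⟩ := key b hb
              refine hmem _ (b * a).2 (τ * σ) (fun i => ?_) ?_
              · change (D i).map (Matrix.toLin' (((b : GL I8 F) * (a : GL I8 F) : GL I8 F) : Matrix I8 I8 F)) = _
                rw [Units.val_mul, Matrix.toLin'_mul, Submodule.map_comp, hσ, hτ]
                rfl
              · exact hperm σ τ h0 h0'
          rw [← H1.card_mul_index, h2, mul_comm]
      have hodd : ∀ m, Odd m → m ∣ Nat.card H → m ∣ Nat.card (H1.map H.subtype) := by
        intro m hm hd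
        rw [Subgroup.card_map_of_injective H.subtype_injective]
        have h3 : Nat.Coprime m 2 := Nat.Coprime.symm ((Nat.coprime_two_left).2 hm)
        exact h3.dvd_of_dvd_mul_left (hd.trans hcard2)
      refine ⟨H1.map H.subtype, D 0, ?_, hodd _ hrodd.pow hrb, hodd _ htodd ht, hD.finrank_eq 0, hDs 0, ?_⟩
      · rintro _ ⟨g, -, rfl⟩
        exact g.2
      · rintro _ ⟨g, hg, rfl⟩
        exact hg
    · exfalso
      rw [hn] at hsn
      have hs2 : s' = 2 := by
        have : s' ∣ 2 ^ 3 := hsn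
        exact (Nat.prime_dvd_prime_iff_eq hs' Nat.prime_two).1 (hs'.dvd_of_dvd_pow this)
      subst hs2
      exact no_quadratic_field hQ hH' hP3 (by decide) le_rfl (by rw [hn]; norm_num) ht hK hHK
    · exfalso
      obtain ⟨J, c, d, hirr', hJ, hJz⟩ := tensor_t e P h1 h1' (by omega) (hHT hzH) hP3.prime hzt (not_dvd_gl2 hP3)
      have hJl : Matrix.toLin' J * Matrix.toLin' J = c • Matrix.toLin' J - d • (1 : Module.End F (I8 → F)) := by
        apply LinearMap.ext
        intro v
        rw [Module.End.mul_apply, Matrix.toLin'_apply, Matrix.toLin'_apply, Matrix.mulVec_mulVec, hJ, Matrix.sub_mulVec,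
          Matrix.smul_mulVec, Matrix.smul_mulVec, Matrix.one_mulVec]
        rfl
      refine hziso.no_quadratic hQ (lin_ne_one hz1) hP3 (by decide) le_rfl (by rw [hfin]; norm_num) (J := Matrix.toLin' J) ?_
        (fun W hW => ?_)
      · intro v
        rw [lin, Matrix.toLin'_apply, Matrix.toLin'_apply, Matrix.toLin'_apply, Matrix.toLin'_apply,
          Matrix.mulVec_mulVec, Matrix.mulVec_mulVec, hJz]
      · refine even_of_irr (J := (Matrix.toLin' J).restrict hW) (c := c) (d := d) ?_ hirr'
        ext w : 2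
        exact congrArg (fun g : Module.End F (I8 → F) => g w) hJl
    · right; right
      have hs2 := sub_two hF h.rb hHF hs' hcard hr
      subst hs2
      rw [hcoe] at hrat
      exact ⟨hirr, F₁, B, ζ, hζ, hcard, hrat, hHF⟩
    · exfalso
      rcases h.rb.cases with ⟨h13, -⟩ | ⟨-, hb2, -⟩ | ⟨-, -, hp23, ha1⟩
      · have := symp_le hHR habs hR hm hsm ht' hP4 (by norm_num) hr
        rw [hn] at this
        omega
      · exact kill_symp hF h.rb hRH hHR habs hR hm hsm ht' ((pow_dvd_pow r hb2).trans hrb)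
      · have h16 := h.q16
        rw [ha1] at h16
        rcases hp23 with h0 | h0 <;> rw [h0] at h16 <;> norm_num at h16
    · exfalso
      have h2k := hW.two_le_m
      have h2t := hW.two_le_t
      have hk3 : k' < 3 := by
        by_contra hcon
        push Not at hcon
        have h3 : 3 ^ 2 ≤ k' ^ t' := (Nat.pow_le_pow_left hcon 2).trans (Nat.pow_le_pow_right (by omega) h2t)
        omega
      have ht4 : t' < 4 := by
        by_contra hcon
        push Not at hcon
        have h3 : 2 ^ 4 ≤ k' ^ t' := (Nat.pow_le_pow_left h2k 4).trans (Nat.pow_le_pow_right (by omega) hcon)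
        omega
      rcases H251.GeoCard.wreath e P hP4.prime (hP4.not_dvd (by omega))
        (hr.trans (Subgroup.card_dvd_of_le hW.wreath)) with h | h
      · omega
      · have := le_of_div hP4 (one_lt_q F).le h
        omega
    · exact Or.inl hS
  · rcases Cfsg.Agent.H925.reducible_cases (Cfsg.Agent.H884.OddForm.isNondegenerate_of_nondeg _ hQ) hH' hirr with
      ⟨W, hW0, hWs, hHW⟩ | ⟨W, hW0, hWn, hd, hHW⟩ | ⟨-, v, hv, hHW⟩
    · right; left
      have h1 := hdim' W (inv_of_mem (hHW hyH))
      have h2 := two_mul_finrank_le hQ (U := W) hWs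
      rw [hfin] at h2
      have h3 : finrank F W ≠ 0 := fun h0 => hW0 (Submodule.finrank_eq_zero.1 h0)
      have h4 : finrank F W = 4 := by
        obtain ⟨c, hc⟩ := h1
        omega
      exact ⟨H, W, le_rfl, hrb, ht, h4, hWs, hHW⟩
    · exfalso
      have h1 := hdim' W (inv_of_mem (hHW hyH))
      have h3 : finrank F W ≠ 0 := fun h0 => hW0 (Submodule.finrank_eq_zero.1 h0)
      rw [hn] at hd
      have h4 : finrank F W = 4 := by
        obtain ⟨c, hc⟩ := h1
        omega
      exact hznd W (nondeg_of_on hWn) (inv_of_mem (hHW hzH)) h4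
    · exfalso
      have hv0 : v ≠ 0 := by
        rintro rfl
        exact hv (QuadraticMap.map_zero _)
      have hs1 := finrank_span_singleton (K := F) hv0
      have h1 := hdim _ (inv_of_mem (hHW hyH))
      rw [hs1] at h1
      omega

end Cfsg.Agent.H683.O8R
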