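import Cfsg.Agent.H683.O8R.Card
import Cfsg.Agent.H884.ExtGL

/-!
# S3691, `PΩ₈⁺(q)`: forms over a self-adjoint quadratic field (helper683)
-/

set_option autoImplicit false
set_option linter.unusedSectionVars false
set_option linter.style.haveILetI false

namespace Cfsg.Agent.H683.O8R

open Module QuadraticMap Cfsg Cfsg.Geo Cfsg.Agent.LieClassical.OrthCore Cfsg.Agent.H955 Cfsg.Agent.H954.TSing
open Cfsg.Agent.LieClassical.OmegaReindex Cfsg.Agent.LieClassical.OrthFinite Cfsg.Agent.LieClassical.QuadForms
open Cfsg.Agent.H951 (fx cm Inv)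
open Cfsg.Agent.H884.El
open Cfsg.Agent.H708.O8
open Cfsg.Agent.H436 (Prim)
open Cfsg.Agent.H81.CycS (card_O_congr)
open Cfsg.Agent.H884.Ext (exists_trace trace_ext trace_ext' exists_TF)
open scoped MatrixGroups Matrix

section Form

variable {F K V : Type*} [Field F] [Field K] [Algebra F K] [AddCommGroup V] [Module F V] [Module K V]
  [IsScalarTower F K V]

/-- characteristic two -/
theorem exists_QK_two [Finite K] {Q : QuadraticForm F V} (h2 : (2 : F) = 0) (hnd : Nondeg Q)
    (hsa : ∀ (k : K) (u v : V), polar Q (k • u) v = polar Q u (k • v))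
    (hal : ∀ (k : K) (v : V), polar Q (k • v) v = 0) :
    ∃ QK : QuadraticForm K V, Nondeg QK ∧ ∀ (k : K) (v : V), Q (k • v) = Algebra.trace F K (k * k * QK v) := by
  have hFfin : Finite F := Finite.of_injective _ (algebraMap F K).injective
  have h2K : (2 : K) = 0 := by
    have := congrArg (algebraMap F K) h2
    rwa [map_ofNat, map_zero] at this
  have hcF : CharP F 2 := CharTwo.of_one_ne_zero_of_two_eq_zero one_ne_zero h2
  have hcK : CharP K 2 := CharTwo.of_one_ne_zero_of_two_eq_zero one_ne_zero h2K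
  have hsqF : ∀ c : F, ∃ d : F, d * d = c := by
    intro c
    have hb : Function.Bijective (frobenius F 2) := Finite.injective_iff_bijective.1 (frobenius_inj F 2)
    obtain ⟨d, hd⟩ := hb.2 c
    exact ⟨d, by rw [← hd, frobenius_def, pow_two]⟩
  have hbK : Function.Bijective (frobenius K 2) := Finite.injective_iff_bijective.1 (frobenius_inj K 2)
  have hsqK : ∀ c : K, ∃ d : K, d * d = c := by
    intro c
    obtain ⟨d, hd⟩ := hbK.2 c
    exact ⟨d, by rw [← hd, frobenius_def, pow_two]⟩
  choose s hs using hsqK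
  have hinj : ∀ x y : K, x * x = y * y → x = y := by
    intro x y hxy
    apply hbK.1
    rw [frobenius_def, frobenius_def, pow_two, pow_two, hxy]
  have hsadd : ∀ x y, s (x + y) = s x + s y := by
    intro x y
    apply hinj
    rw [hs]
    have : (s x + s y) * (s x + s y) = s x * s x + s y * s y + 2 * (s x * s y) := by ring
    rw [this, hs, hs, h2K, zero_mul, add_zero]
  have hssq : ∀ x, s (x * x) = x := by
    intro x
    apply hinj
    rw [hs]
  have hext : ∀ {a b : K}, (∀ k, Algebra.trace F K (a * k) = Algebra.trace F K (b * k)) → a = b := by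
    intro a b hab
    apply trace_ext' (F := F)
    intro c
    rw [mul_comm c a, mul_comm c b, hab]
  have hsw : ∀ (k l : K) (u v : V), polar Q (k • u) (l • v) = polar Q ((l * k) • u) v := by
    intro k l u v
    rw [← hsa, smul_smul]
  have hQadd : ∀ (k l : K) (v : V), Q ((k + l) • v) = Q (k • v) + Q (l • v) := by
    intro k l v
    have h1 : Q (k • v + l • v) = Q (k • v) + Q (l • v) + polar Q (k • v) (l • v) := by rw [polar]; ring
    rw [add_smul, h1, hsw, hal, add_zero]
  -- the linear functionals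
  have hlin : ∀ v : V, ∃ φ : K →ₗ[F] F, ∀ k, φ k = Q (s k • v) := by
    intro v
    refine ⟨{ toFun := fun k => Q (s k • v), map_add' := fun k l => by rw [hsadd, hQadd], map_smul' := fun c k => ?_ },
      fun k => rfl⟩
    obtain ⟨d, rfl⟩ := hsqF c
    have h1 : s ((d * d) • k) = d • s k := by
      apply hinj
      rw [hs, smul_mul_smul_comm, hs]
    rw [h1, smul_assoc, QuadraticMap.map_smul]
    rfl
  have hexq : ∀ v : V, ∃ e : K, ∀ k, Q (k • v) = Algebra.trace F K (e * (k * k)) := by
    intro v
    obtain ⟨φ, hφ⟩ := hlin v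
    obtain ⟨e, he⟩ := exists_trace φ
    refine ⟨e, fun k => ?_⟩
    rw [← he, hφ, hssq]
  choose q hq using hexq
  have hexb : ∀ u v : V, ∃ e : K, ∀ k, polar Q (k • u) v = Algebra.trace F K (e * k) := by
    intro u v
    obtain ⟨e, he⟩ := exists_trace ((polarBilin Q).flip v ∘ₗ (LinearMap.toSpanSingleton K V u).restrictScalars F)
    exact ⟨e, fun k => by rw [← he]; rfl⟩
  choose f hf using hexb
  have hadd : ∀ u u' v, f (u + u') v = f u v + f u' v := by
    intro u u' v
    apply hext
    intro k
    rw [← hf, smul_add, polar_add_left, hf, hf, add_mul, map_add]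
  have hsmul : ∀ (c : K) u v, f (c • u) v = c * f u v := by
    intro c u v
    apply hext
    intro k
    rw [← hf, smul_smul, hf]
    ring_nf
  have hsymm : ∀ u v, f u v = f v u := by
    intro u v
    apply hext
    intro k
    rw [← hf, ← hf, hsa, polar_comm]
  let B : V →ₗ[K] V →ₗ[K] K := LinearMap.mk₂ K f hadd (fun c u v => by rw [hsmul, smul_eq_mul])
    (fun u v v' => by rw [hsymm, hadd, hsymm v, hsymm v'])
    (fun c u v => by rw [hsymm, hsmul, hsymm v, smul_eq_mul])
  have hB : ∀ u v, B u v = f u v := fun u v => rfl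
  have hqadd : ∀ u v, q (u + v) = q u + q v + f u v := by
    intro u v
    apply hext
    intro k
    obtain ⟨k, rfl⟩ : ∃ l, l * l = k := ⟨s k, hs k⟩
    have h1 : Q (k • u + k • v) = Q (k • u) + Q (k • v) + polar Q (k • u) (k • v) := by rw [polar]; ring
    rw [← hq, smul_add, h1, hsw, hq, hq, hf, add_mul, add_mul, map_add, map_add]
  have hqsmul : ∀ (c : K) v, q (c • v) = c * c * q v := by
    intro c v
    apply hext
    intro k
    obtain ⟨k, rfl⟩ : ∃ l, l * l = k := ⟨s k, hs k⟩
    rw [← hq, smul_smul, hq]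
    ring_nf
  let QK : QuadraticForm K V :=
    { toFun := q
      toFun_smul := fun c v => by rw [hqsmul, smul_eq_mul]
      exists_companion' := ⟨B, fun u v => by rw [hqadd, hB]⟩ }
  have hQK : ∀ v, QK v = q v := fun v => rfl
  have hpolar : ∀ u v, polar QK u v = f u v := by
    intro u v
    rw [polar, hQK, hQK, hQK, hqadd]
    ring
  refine ⟨QK, fun x hx => ?_, fun k v => ?_⟩
  · apply hnd
    intro y
    have h3 := hx y
    rw [hpolar] at h3
    have := hf x y 1
    rwa [h3, one_smul, zero_mul, map_zero] at this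
  · rw [hq, hQK, mul_comm]

/-- **the form over the field** -/
theorem exists_QK [Finite K] {Q : QuadraticForm F V} (hnd : Nondeg Q)
    (hsa : ∀ (k : K) (u v : V), polar Q (k • u) v = polar Q u (k • v))
    (hal : (2 : F) = 0 → ∀ (k : K) (v : V), polar Q (k • v) v = 0) :
    ∃ QK : QuadraticForm K V, Nondeg QK ∧ ∀ (k : K) (v : V), Q (k • v) = Algebra.trace F K (k * k * QK v) := by
  by_cases h2 : (2 : F) = 0
  · exact exists_QK_two h2 hnd hsa (hal h2)
  · obtain ⟨QK, h⟩ := exists_TF h2 hnd hsa
    refine ⟨QK, h.nondeg, fun k v => ?_⟩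
    rw [h.tr, QuadraticMap.map_smul, smul_eq_mul]

/-- isometries commuting with the field -/
theorem QK_pres [Finite K] {Q : QuadraticForm F V} {QK : QuadraticForm K V}
    (hQK : ∀ (k : K) (v : V), Q (k • v) = Algebra.trace F K (k * k * QK v)) (g : V ≃ₗ[K] V)
    (hg : ∀ v, Q (g v) = Q v) (v : V) : QK (g v) = QK v := by
  have h1 : ∀ k : K, Algebra.trace F K (k * k * (QK (g v) - QK v)) = 0 := by
    intro k
    rw [mul_sub, map_sub, ← hQK, ← hQK, ← map_smul, hg, sub_self]
  rw [← sub_eq_zero]
  apply trace_ext (F := F)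
  intro c
  by_cases h2 : (2 : K) = 0
  · have hcK : CharP K 2 := CharTwo.of_one_ne_zero_of_two_eq_zero one_ne_zero h2
    have hbK : Function.Bijective (frobenius K 2) := Finite.injective_iff_bijective.1 (frobenius_inj K 2)
    obtain ⟨d, hd⟩ := hbK.2 c
    rw [← hd, frobenius_def, pow_two]
    exact h1 d
  · have h3 : c = ((c + 1) / 2) * ((c + 1) / 2) - ((c - 1) / 2) * ((c - 1) / 2) := by
      field_simp
      ring
    rw [h3, sub_mul, map_sub, h1, h1, sub_zero]

/-- the order of the centraliser of the field in the orthogonal group -/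
theorem card_centralizer [Finite F] [Fintype K] [FiniteDimensional F V] {Q : QuadraticForm F V} (hnd : Nondeg Q)
    (hsa : ∀ (k : K) (u v : V), polar Q (k • u) v = polar Q u (k • v))
    (hal : (2 : F) = 0 → ∀ (k : K) (v : V), polar Q (k • v) v = 0) (hd : finrank K V = 4)
    {A : Subgroup (V ≃ₗ[F] V)} (hA : A ≤ O Q) (hAK : ∀ g ∈ A, ∀ (k : K) (v : V), g (k • v) = k • g v) :
    Nat.card A ∣ 2 * Nat.card K ^ 2 * (Nat.card K ^ 4 - 1) ^ 2 := by
  obtain ⟨QK, hQn, hQK⟩ := exists_QK hnd hsa hal
  have hfd : FiniteDimensional K V := FiniteDimensional.of_finrank_pos (by omega)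
  let toK : A →* (V ≃ₗ[K] V) :=
    { toFun := fun a =>
        { (a : V ≃ₗ[F] V).toAddEquiv with
          map_smul' := fun k v => hAK a a.2 k v }
      map_one' := by ext v; rfl
      map_mul' := fun a b => by ext v; rfl }
  have htoK : ∀ (a : A) (v : V), toK a v = (a : V ≃ₗ[F] V) v := fun a v => rfl
  let ρ : A →* ↥(O QK) := toK.codRestrict (O QK) (fun a v => by
    refine QK_pres hQK (toK a) (fun v => ?_) v
    rw [htoK]
    exact hA a.2 v)
  have hinj : Function.Injective ρ := by
    rw [injective_iff_map_eq_one]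
    intro a ha
    have h3 : toK a = 1 := congrArg Subtype.val ha
    apply Subtype.ext
    apply LinearEquiv.ext
    intro v
    rw [← htoK, h3]
    rfl
  exact (Subgroup.card_dvd_of_injective _ hinj).trans (card_O_four QK hQn hd)

end Form

end Cfsg.Agent.H683.O8R
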