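import Cfsg.Agent.H708.O8.Main
import Cfsg.Agent.H23.FreeAct

/-!
# S3691, `PΩ₈⁺(q)`: subgroups with noncyclic Sylow `r`-subgroups, `r ∣ q² + 1` (helper683)

`Pair H g₁ g₂ r` : `g₁, g₂ ∈ H` of order `r`, `dim [V, g₁] = 4`, `[V, g₂] = C_V(g₁)`; `exists_pair`.
-/

set_option autoImplicit false
set_option linter.unusedSectionVars false

namespace Cfsg.Agent.H683.O8R

open Module QuadraticMap Cfsg Cfsg.Geo Cfsg.Agent.LieClassical.OrthCore Cfsg.Agent.H955 Cfsg.Agent.H954.TSing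
open Cfsg.Agent.LieClassical.OmegaReindex
open Cfsg.Agent.H951 (fx cm Inv)
open Cfsg.Agent.H884.El
open Cfsg.Agent.H708.O8
open Cfsg.Agent.H436 (Prim)
open scoped MatrixGroups Matrix

variable {F : Type} [Field F] [Fintype F] {p a r b : ℕ}

/-- two elements of order `r` acting on complementary spaces of dimension four -/
structure Pair (H : Subgroup (GL I8 F)) (g₁ g₂ : GL I8 F) (r : ℕ) : Prop where
  le : H ≤ isometryGroup F (quadFormPlus 4 F)
  mem₁ : g₁ ∈ H
  mem₂ : g₂ ∈ H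
  pow₁ : g₁ ^ r = 1
  pow₂ : g₂ ^ r = 1
  dim₁ : finrank F (cm (lin g₁)) = 4
  dim₂ : finrank F (cm (lin g₂)) = 4
  cm₂ : cm (lin g₂) = fx (lin g₁)
  fx₂ : fx (lin g₂) = cm (lin g₁)

theorem iso_of (hF : Nat.card F = p ^ a) (h : RB p a r b) {g : GL I8 F} (hg : g ∈ isometryGroup F (quadFormPlus 4 F))
    (hgr : g ^ r = 1) : Iso (quadPlus 4 F) (lin g) r := by
  refine Iso.mk' (h.ppF hF) (by omega) (by rw [← lin_pow, hgr]; exact lin_one') ?_
  have : isometryGroup F (quadFormPlus 4 F) ≤ isometryGroup F (⇑(quadPlus 4 F)) := by rw [coe_quadPlus]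
  exact lin_iso this hg

theorem fin8 : finrank F (I8 → F) = 8 := by rw [finrank_V]; simp

theorem commute_lin {g h : GL I8 F} (e : g * h = h * g) : Commute (lin g) (lin h) := by
  change lin g * lin h = lin h * lin g
  rw [← lin_mul, ← lin_mul, e]

theorem inv_fx_of_comm {x y : Module.End F (I8 → F)} (h : Commute x y) : Inv x (fx y) := by
  intro v hv
  rw [H951.mem_fx] at hv ⊢
  rw [← Module.End.mul_apply, ← h.eq, Module.End.mul_apply, hv]

theorem inv_cm_of_comm {x y : Module.End F (I8 → F)} (h : Commute x y) : Inv x (cm y) := by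
  intro v hv
  obtain ⟨c, rfl⟩ := H951.mem_cm.1 hv
  refine H951.mem_cm.2 ⟨x c, ?_⟩
  rw [map_sub, ← Module.End.mul_apply, ← h.eq, Module.End.mul_apply]

/-- the pair from two commuting elements -/
theorem pair_of (hF : Nat.card F = p ^ a) (h : RB p a r b) {H : Subgroup (GL I8 F)}
    (hH : H ≤ isometryGroup F (quadFormPlus 4 F)) {g₁ g : GL I8 F} (h₁ : g₁ ∈ H) (hg : g ∈ H) (p₁ : g₁ ^ r = 1)
    (pg : g ^ r = 1) (d₁ : finrank F (cm (lin g₁)) = 4) (hc : g₁ * g = g * g₁) (hg1 : g ≠ 1) {v : I8 → F} (hv0 : v ≠ 0)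
    (hv : v ∈ cm (lin g₁)) (hgv : lin g v = v) : Pair H g₁ g r := by
  have hr := h.ppF hF
  have i₁ := iso_of hF h (hH h₁) p₁
  have ig := iso_of hF h (hH hg) pg
  have hdis : cm (lin g₁) ⊓ fx (lin g₁) = ⊥ := H951.inf_fx_of_le_cm i₁.ne0 i₁.pow le_rfl
  have hdis' : cm (lin g) ⊓ fx (lin g) = ⊥ := H951.inf_fx_of_le_cm ig.ne0 ig.pow le_rfl
  have hcl := commute_lin hc
  have k1 : cm (lin g₁) ≤ fx (lin g) := by
    rcases i₁.le_or hr d₁ (inv_fx_of_comm hcl) with h1 | h1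
    · exfalso
      have h2 : v ∈ cm (lin g₁) ⊓ fx (lin g₁) := ⟨hv, h1 (H951.mem_fx.2 hgv)⟩
      rw [hdis] at h2
      exact hv0 ((Submodule.mem_bot F).1 h2)
    · exact h1
  have hne : cm (lin g) ≠ ⊥ := by
    apply cm_ne_bot
    intro h0
    exact hg1 (H989.Cov.O8.lin_eq_one h0)
  have hadd : finrank F (fx (lin g)) + finrank F (cm (lin g)) = 8 := ig.finrank_add.trans fin8
  have hadd₁ : finrank F (fx (lin g₁)) + finrank F (cm (lin g₁)) = 8 := i₁.finrank_add.trans fin8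
  have hd4 : 4 ∣ finrank F (cm (lin g)) := ig.dvd_cm hr
  have hle := Submodule.finrank_mono k1
  rw [d₁] at hle hadd₁
  have hpos : 0 < finrank F (cm (lin g)) := Nat.pos_of_ne_zero fun h0 => hne (Submodule.finrank_eq_zero.1 h0)
  have hge : 4 ≤ finrank F (cm (lin g)) := Nat.le_of_dvd hpos hd4
  have dg : finrank F (cm (lin g)) = 4 := by omega
  have k2 : cm (lin g) ≤ fx (lin g₁) := by
    rcases i₁.le_or hr d₁ (inv_cm_of_comm hcl) with h1 | h1
    · exact h1
    · exfalso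
      have h2 : cm (lin g₁) ≤ cm (lin g) ⊓ fx (lin g) := le_inf h1 k1
      rw [hdis'] at h2
      have h3 := Submodule.finrank_mono h2
      rw [finrank_bot, d₁] at h3
      omega
  refine ⟨hH, h₁, hg, p₁, pg, d₁, dg, ?_, ?_⟩
  · exact Submodule.eq_of_le_of_finrank_eq k2 (by omega)
  · exact (Submodule.eq_of_le_of_finrank_eq k1 (by omega)).symm

/-- **a noncyclic `r`-subgroup contains a pair** -/
theorem exists_pair (hF : Nat.card F = p ^ a) (h : RB p a r b) {P : Subgroup (GL I8 F)}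
    (hPi : P ≤ isometryGroup F (quadFormPlus 4 F)) (hPr : IsPGroup r P) (hP : ¬ IsCyclic P) :
    ∃ g₁ g₂, Pair P g₁ g₂ r := by
  classical
  have hr := h.prim.prime
  have : Fact r.Prime := ⟨hr⟩
  have h5 := h.five
  have hr2 : r ≠ 2 := by omega
  obtain ⟨A, -, ⟨hAc, hAr⟩, hAcard⟩ := S0126.result (R := P) hr2 hPr hP
  let A' : Subgroup (GL I8 F) := A.map P.subtype
  have hA'P : A' ≤ P := by
    rintro _ ⟨x, -, rfl⟩
    exact x.2
  have hA'r : ∀ x ∈ A', x ^ r = 1 := by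
    rintro _ ⟨x, hx, rfl⟩
    rw [← map_pow, hAr x hx, map_one]
  have hA'c : ∀ x ∈ A', ∀ y ∈ A', x * y = y * x := by
    rintro _ ⟨x, hx, rfl⟩ _ ⟨y, hy, rfl⟩
    have h1 := hAc.is_comm.comm ⟨x, hx⟩ ⟨y, hy⟩
    rw [← map_mul, ← map_mul]
    exact congrArg P.subtype (congrArg Subtype.val h1)
  have hA'card : Nat.card A' = r ^ 2 := by
    rw [← hAcard]
    exact Subgroup.card_map_of_injective P.subtype_injective
  have hA'p : IsPGroup r A' := IsPGroup.of_card hA'card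
  have hnc : ¬ IsCyclic A' := by
    intro hc
    obtain ⟨g, hg⟩ := hc.exists_generator
    have h1 : orderOf g = r ^ 2 := by
      rw [← hA'card]
      exact orderOf_eq_card_of_forall_mem_zpowers hg
    have h2 : g ^ r = 1 := Subtype.ext (hA'r g g.2)
    have h3 := orderOf_dvd_of_pow_eq_one h2
    rw [h1] at h3
    have h4 := Nat.le_of_dvd hr.pos h3
    nlinarith [hr.two_le]
  obtain ⟨g₁, hg₁, hg₁r, hg₁1, hd₁⟩ := H989.Cov.O8.exists_four hF h hA'p hnc
  obtain ⟨x, hx, hxg⟩ : ∃ x ∈ A', x ∉ Subgroup.zpowers g₁ := by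
    by_contra hcon
    push Not at hcon
    have h1 : A' ≤ Subgroup.zpowers g₁ := hcon
    have h2 := Nat.le_of_dvd Nat.card_pos (Subgroup.card_dvd_of_le h1)
    rw [hA'card, Nat.card_zpowers, orderOf_eq_prime hg₁r hg₁1] at h2
    nlinarith [hr.two_le]
  have hcxg := hA'c x hx g₁ hg₁
  have i₁ := iso_of hF h (hPi (hA'P hg₁)) hg₁r
  have hdis : cm (lin g₁) ⊓ fx (lin g₁) = ⊥ := H951.inf_fx_of_le_cm i₁.ne0 i₁.pow le_rfl
  have hinvx : Inv (lin x) (cm (lin g₁)) := inv_cm_of_comm (commute_lin hcxg)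
  have hinvg : Inv (lin g₁) (cm (lin g₁)) := inv_cm_of_comm (Commute.refl _)
  let X : Module.End F (cm (lin g₁)) := (lin x).restrict hinvx
  let Y : Module.End F (cm (lin g₁)) := (lin g₁).restrict hinvg
  have hXc : ∀ w, ((X w : cm (lin g₁)) : I8 → F) = lin x w := fun w => rfl
  have hYc : ∀ w, ((Y w : cm (lin g₁)) : I8 → F) = lin g₁ w := fun w => rfl
  have hpow : ∀ (g : GL I8 F) (hi : Inv (lin g) (cm (lin g₁))) (n : ℕ) (w : cm (lin g₁)),
      ((((lin g).restrict hi : Module.End F (cm (lin g₁))) ^ n) w : I8 → F) = lin (g ^ n) w := by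
    intro g hi n
    induction n with
    | zero => intro w; rw [pow_zero, pow_zero, lin_one']; rfl
    | succ n ih =>
      intro w
      rw [pow_succ, Module.End.mul_apply, ih, pow_succ, lin_mul, Module.End.mul_apply]
      rfl
  have hXY : Commute X Y := by
    apply LinearMap.ext
    intro w
    apply Subtype.ext
    rw [Module.End.mul_apply, Module.End.mul_apply, hXc, hYc, hYc, hXc, ← Module.End.mul_apply,
      (commute_lin hcxg).eq, Module.End.mul_apply]
  have hXr : X ^ r = 1 := by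
    apply LinearMap.ext
    intro w
    apply Subtype.ext
    rw [hpow, hA'r x hx, lin_one']
    rfl
  have hYr : Y ^ r = 1 := by
    apply LinearMap.ext
    intro w
    apply Subtype.ext
    rw [hpow, hg₁r, lin_one']
    rfl
  obtain ⟨v₀, hv₀⟩ : ∃ v₀ : cm (lin g₁), v₀ ≠ 0 := by
    by_contra hcon
    push Not at hcon
    have h1 : cm (lin g₁) = ⊥ := by
      rw [eq_bot_iff]
      intro v hv
      exact (Submodule.mem_bot F).2 (congrArg Subtype.val (hcon ⟨v, hv⟩))
    rw [h1, finrank_bot] at hd₁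
    omega
  rcases H989.Cov.O8.exists_fixed_of_comm hr i₁.ne0 hXY hXr hYr hv₀ with ⟨i, v, hv, hf⟩ | ⟨v, hv, hf⟩
  · have hmem : x * g₁ ^ i ∈ A' := A'.mul_mem hx (A'.pow_mem hg₁ i)
    refine ⟨g₁, x * g₁ ^ i, pair_of hF h hPi (hA'P hg₁) (hA'P hmem) hg₁r (hA'r _ hmem) hd₁
      (hA'c _ hg₁ _ hmem) ?_ (v := (v : I8 → F)) (fun h0 => hv (Subtype.ext h0)) v.2 ?_⟩
    · intro h1
      apply hxg
      rw [eq_inv_of_mul_eq_one_left h1]
      exact Subgroup.inv_mem _ (Subgroup.pow_mem _ (Subgroup.mem_zpowers g₁) i)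
    · have h1 := congrArg Subtype.val hf
      rw [Module.End.mul_apply, hXc, hpow] at h1
      rw [lin_mul, Module.End.mul_apply]
      exact h1
  · exfalso
    have h1 : lin g₁ (v : I8 → F) = v := congrArg Subtype.val hf
    have h2 : (v : I8 → F) ∈ cm (lin g₁) ⊓ fx (lin g₁) := ⟨v.2, H951.mem_fx.2 h1⟩
    rw [hdis] at h2
    exact hv (Subtype.ext ((Submodule.mem_bot F).1 h2))

/-- `r ^ (b + 1)` does not divide `q⁴ - 1`, `q⁸ - 1` -/
theorem not_dvd_four (h : RB p a r b) : ¬ r ^ (b + 1) ∣ (p ^ a) ^ 4 - 1 := by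
  intro h1
  have ha := h.ha
  apply h.not_dvd
  have h2 : (p ^ a) ^ 4 - 1 = ((p ^ a) ^ 2 - 1) * ((p ^ a) ^ 2 + 1) := by
    have := Nat.sq_sub_sq ((p ^ a) ^ 2) 1
    rw [one_pow, ← pow_mul] at this
    rw [mul_comm]
    exact this
  have h3 : p ^ (2 * a) = (p ^ a) ^ 2 := by rw [← pow_mul, mul_comm]
  rw [h2] at h1
  rw [h3]
  have h4 : ¬ r ∣ (p ^ a) ^ 2 - 1 := by
    intro h5
    rw [← h3] at h5
    have := Nat.le_of_dvd (by omega) ((h.prim.dvd_iff _).1 h5)
    omega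
  exact (Nat.Coprime.pow_left _ ((Nat.Prime.coprime_iff_not_dvd h.prim.prime).2 h4)).dvd_of_dvd_mul_left h1

theorem not_dvd_eight (h : RB p a r b) : ¬ r ^ (b + 1) ∣ (p ^ a) ^ 8 - 1 := by
  intro hd
  have hr := h.prim.prime
  have h5 := h.five
  have hp1 : 1 ≤ (p ^ a) ^ 4 := Nat.one_le_pow _ _ (pow_pos h.hp.pos _)
  have e : (p ^ a) ^ 8 - 1 = ((p ^ a) ^ 4 + 1) * ((p ^ a) ^ 4 - 1) := by
    have := Nat.sq_sub_sq ((p ^ a) ^ 4) 1
    rw [one_pow, ← pow_mul] at this
    exact this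
  rw [e] at hd
  have h4 : r ∣ (p ^ a) ^ 4 - 1 := by
    rw [← pow_mul]
    exact (h.prim.dvd_iff _).2 (by rw [mul_comm])
  have hcop : Nat.Coprime (r ^ (b + 1)) ((p ^ a) ^ 4 + 1) := by
    apply Nat.Coprime.pow_left
    rw [Nat.Prime.coprime_iff_not_dvd hr]
    intro h6
    have h7 : r ∣ 2 := by
      have := (Nat.dvd_sub h6 h4)
      have e2 : (p ^ a) ^ 4 + 1 - ((p ^ a) ^ 4 - 1) = 2 := by omega
      rwa [e2] at this
    have := Nat.le_of_dvd (by norm_num) h7
    omega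
  exact not_dvd_four h (hcop.dvd_of_dvd_mul_left hd)

/-- no element of order `r ^ (b + 1)` -/
theorem no_elt (hF : Nat.card F = p ^ a) (h : RB p a r b) {g : GL I8 F} (hg : g ∈ isometryGroup F (quadFormPlus 4 F))
    (ho : orderOf g = r ^ (b + 1)) : False := by
  classical
  have hr := h.prim.prime
  have : Fact r.Prime := ⟨hr⟩
  have hPP := h.ppF hF
  have hyr : (g ^ r ^ b) ^ r = 1 := by rw [← pow_mul, ← pow_succ, ← ho, pow_orderOf_eq_one]
  have hy1 : g ^ r ^ b ≠ 1 := by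
    intro h0
    have h1 := orderOf_dvd_of_pow_eq_one h0
    rw [ho] at h1
    have h2 := (Nat.pow_dvd_pow_iff_le_right hr.one_lt).1 h1
    omega
  have iy := iso_of hF h (Subgroup.pow_mem _ hg _) hyr
  have hne : cm (lin (g ^ r ^ b)) ≠ ⊥ := cm_ne_bot fun h0 => hy1 (H989.Cov.O8.lin_eq_one h0)
  have hd4 : 4 ∣ finrank F (cm (lin (g ^ r ^ b))) := iy.dvd_cm hPP
  have hadd : finrank F (fx (lin (g ^ r ^ b))) + finrank F (cm (lin (g ^ r ^ b))) = 8 := iy.finrank_add.trans fin8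
  have hpos : 0 < finrank F (cm (lin (g ^ r ^ b))) := Nat.pos_of_ne_zero fun h0 => hne (Submodule.finrank_eq_zero.1 h0)
  have hcases : finrank F (cm (lin (g ^ r ^ b))) = 4 ∨ finrank F (cm (lin (g ^ r ^ b))) = 8 := by
    obtain ⟨k, hk⟩ := hd4
    have : k ≤ 2 := by omega
    interval_cases k <;> omega
  have hdis : cm (lin (g ^ r ^ b)) ⊓ fx (lin (g ^ r ^ b)) = ⊥ := H951.inf_fx_of_le_cm iy.ne0 iy.pow le_rfl
  set U := cm (lin (g ^ r ^ b)) with hU
  have hinv : ∀ c ∈ Subgroup.zpowers g, ∀ v ∈ U, lin c v ∈ U := by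
    rintro _ ⟨n, rfl⟩ v hv
    exact inv_cm_of_comm (commute_lin (by
      change g ^ n * g ^ (r ^ b) = g ^ (r ^ b) * g ^ n
      exact ((Commute.refl g).zpow_left n).pow_right (r ^ b))) v hv
  -- the action
  let act : MulAction (Subgroup.zpowers g) {v : U // v ≠ 0} :=
    { smul := fun c v => ⟨⟨lin (c : GL I8 F) (v.1 : I8 → F), hinv c c.2 _ v.1.2⟩, fun h0 => v.2 (by
        apply Subtype.ext
        apply lin_inj (c : GL I8 F)
        have h1 : lin (c : GL I8 F) (v.1 : I8 → F) = 0 := congrArg Subtype.val h0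
        rw [h1]
        exact (map_zero _).symm)⟩
      one_smul := fun v => Subtype.ext (Subtype.ext (by
        change lin ((1 : Subgroup.zpowers g) : GL I8 F) (v.1 : I8 → F) = _
        rw [Subgroup.coe_one, lin_one']
        rfl))
      mul_smul := fun c d v => Subtype.ext (Subtype.ext (by
        change lin ((c * d : Subgroup.zpowers g) : GL I8 F) (v.1 : I8 → F) = lin (c : GL I8 F) (lin (d : GL I8 F) (v.1 : I8 → F))
        rw [Subgroup.coe_mul, lin_mul]
        rfl)) }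
  have hfree : ∀ (c : Subgroup.zpowers g) (v : {v : U // v ≠ 0}), c • v = v → c = 1 := by
    rintro ⟨_, n, rfl⟩ v hcv
    have h1 : lin (g ^ n) (v.1 : I8 → F) = v.1 := congrArg (fun w : {v : U // v ≠ 0} => ((w.1 : U) : I8 → F)) hcv
    by_contra hne1
    -- the stabiliser of `v` in `⟨g⟩`
    let St : Subgroup (GL I8 F) :=
      { carrier := {x | lin x (v.1 : I8 → F) = v.1}
        one_mem' := by rw [Set.mem_ofPred_eq, lin_one']; rfl
        mul_mem' := fun {x y} hx hy => by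
          rw [Set.mem_ofPred_eq] at hx hy ⊢
          rw [lin_mul, Module.End.mul_apply, hy, hx]
        inv_mem' := fun {x} hx => by
          rw [Set.mem_ofPred_eq] at hx ⊢
          apply lin_inj x
          rw [lin_lin_inv, hx] }
    have hn : g ^ n ∈ St := h1
    have hgo : g ^ (r ^ (b + 1)) ∈ St := by
      rw [← ho, pow_orderOf_eq_one]
      exact St.one_mem
    have hgcd : g ^ (Int.gcd n (r ^ (b + 1) : ℕ) : ℤ) ∈ St := by
      rw [Int.gcd_eq_gcd_ab, zpow_add, zpow_mul, zpow_mul]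
      refine St.mul_mem (St.zpow_mem hn _) (St.zpow_mem ?_ _)
      rw [zpow_natCast]
      exact hgo
    rw [zpow_natCast] at hgcd
    have hdv : Int.gcd n (r ^ (b + 1) : ℕ) ∣ r ^ (b + 1) := by
      have := Int.gcd_dvd_right n (r ^ (b + 1) : ℕ)
      exact_mod_cast this
    obtain ⟨i, hi, hi2⟩ := (Nat.dvd_prime_pow hr).1 hdv
    have hib : i ≤ b := by
      by_contra hcon
      have hib : i = b + 1 := by omega
      rw [hib] at hi2
      apply hne1
      apply Subtype.ext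
      change g ^ n = 1
      rw [← orderOf_dvd_iff_zpow_eq_one, ho]
      have := Int.gcd_dvd_left n (r ^ (b + 1) : ℕ)
      rw [hi2] at this
      exact_mod_cast this
    rw [hi2] at hgcd
    have h2 : g ^ r ^ b ∈ St := by
      obtain ⟨j, hj⟩ := pow_dvd_pow r hib
      rw [hj, pow_mul]
      exact St.pow_mem hgcd _
    have h3 : (v.1 : I8 → F) ∈ U ⊓ fx (lin (g ^ r ^ b)) := ⟨v.1.2, H951.mem_fx.2 h2⟩
    rw [hdis] at h3
    exact v.2 (Subtype.ext ((Submodule.mem_bot F).1 h3))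
  have hdvd := H23.FreeAct.card_dvd_of_free (D := Subgroup.zpowers g) (α := {v : U // v ≠ 0}) hfree
  rw [Nat.card_zpowers, ho] at hdvd
  have hcard : Nat.card {v : U // v ≠ 0} = Nat.card U - 1 := by
    rw [Nat.card_eq_fintype_card, Nat.card_eq_fintype_card, Fintype.card_subtype_compl, Fintype.card_subtype_eq]
  have hcU : Nat.card U = (p ^ a) ^ finrank F U := by
    rw [← hF, Module.natCard_eq_pow_finrank (K := F)]
  rw [hcard, hcU] at hdvd
  rcases hcases with h1 | h1 <;> rw [h1] at hdvd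
  · exact not_dvd_four h hdvd
  · exact not_dvd_eight h hdvd

/-- a subgroup of `PΩ⁺₈(q)` whose order is divisible by `r ^ (b + 1)` -/
theorem exists_pair_pre (hF : Nat.card F = p ^ a) (h : RB p a r b) {R : Subgroup (T8 F)} (hR : r ^ (b + 1) ∣ Nat.card R) :
    ∃ g₁ g₂, Pair (pre (quadFormPlus 4 F) R) g₁ g₂ r := by
  have hr := h.prim.prime
  have : Fact r.Prime := ⟨hr⟩
  have hle : pre (quadFormPlus 4 F) R ≤ isometryGroup F (quadFormPlus 4 F) := pre_le
  obtain ⟨S, hS⟩ := Sylow.exists_subgroup_card_pow_prime (G := pre (quadFormPlus 4 F) R) r (hR.trans card_dvd_pre)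
  let P : Subgroup (GL I8 F) := S.map (pre (quadFormPlus 4 F) R).subtype
  have hP : Nat.card P = r ^ (b + 1) := by
    rw [← hS]
    exact Subgroup.card_map_of_injective (Subgroup.subtype_injective _)
  have hPle : P ≤ pre (quadFormPlus 4 F) R := by
    rintro _ ⟨x, -, rfl⟩
    exact x.2
  have hnc : ¬ IsCyclic P := by
    intro hc
    obtain ⟨g, hg⟩ := hc.exists_generator
    have h1 : orderOf g = r ^ (b + 1) := by
      rw [← hP]
      exact orderOf_eq_card_of_forall_mem_zpowers hg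
    exact no_elt hF h (hle (hPle g.2)) (by rw [Subgroup.orderOf_coe, h1])
  obtain ⟨g₁, g₂, hp⟩ := exists_pair hF h (hPle.trans hle) (IsPGroup.of_card hP) hnc
  exact ⟨g₁, g₂, hle, hPle hp.mem₁, hPle hp.mem₂, hp.pow₁, hp.pow₂, hp.dim₁, hp.dim₂, hp.cm₂, hp.fx₂⟩

end Cfsg.Agent.H683.O8R
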