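import Cfsg.Agent.H683.O8R.Geo
import Cfsg.Agent.H823.O8R.Over
import Cfsg.Agent.H884.ElO8

/-!
# S3691, `PΩ₈⁺(q)`, box F34: tensor products (helper683)
-/

set_option autoImplicit false
set_option linter.unusedSectionVars false

namespace Cfsg.Agent.H683.O8R

open Module QuadraticMap Cfsg Cfsg.Geo Cfsg.Agent.LieClassical.OrthCore Cfsg.Agent.H955 Cfsg.Agent.H954.TSing
open Cfsg.Agent.LieClassical.OmegaReindex
open Cfsg.Agent.H951 (fx cm Inv)
open Cfsg.Agent.H884.El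
open Cfsg.Agent.H708.O8 (I8 T8 RB)
open Cfsg.Agent.H436 (Prim)
open Cfsg.Agent.H823.O8R (even_of_irr exists_irr)
open scoped MatrixGroups Matrix Kronecker

section Kron

variable {ι : Type} [Fintype ι] [DecidableEq ι] {F : Type} [Field F] [Fintype F]

theorem transport_quad {κ : Type} [Fintype κ] [DecidableEq κ] (e : κ ≃ ι) (P : GL ι F) {C : Matrix κ κ F} {c d : F}
    (hC : C * C = c • C - d • (1 : Matrix κ κ F)) {J : Matrix ι ι F}
    (hJ : J = (P : Matrix ι ι F) * Matrix.reindexAlgEquiv F F e C * ((P⁻¹ : GL ι F) : Matrix ι ι F)) :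
    J * J = c • J - d • (1 : Matrix ι ι F) := by
  obtain ⟨R, hR⟩ : ∃ R, R = Matrix.reindexAlgEquiv F F e C := ⟨_, rfl⟩
  have h1 : R * R = c • R - d • (1 : Matrix ι ι F) := by
    rw [hR, ← map_mul, hC, map_sub, map_smul, map_smul, map_one]
  rw [← hR] at hJ
  have hP1 : ((P⁻¹ : GL ι F) : Matrix ι ι F) * (P : Matrix ι ι F) = 1 := by
    rw [← Units.val_mul, inv_mul_cancel, Units.val_one]
  have hP2 : (P : Matrix ι ι F) * ((P⁻¹ : GL ι F) : Matrix ι ι F) = 1 := by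
    rw [← Units.val_mul, mul_inv_cancel, Units.val_one]
  have h2 : J * J = (P : Matrix ι ι F) * (R * R) * ((P⁻¹ : GL ι F) : Matrix ι ι F) := by
    rw [hJ]
    calc (P : Matrix ι ι F) * R * ((P⁻¹ : GL ι F) : Matrix ι ι F) * ((P : Matrix ι ι F) * R * ((P⁻¹ : GL ι F) : Matrix ι ι F))
        = (P : Matrix ι ι F) * R * (((P⁻¹ : GL ι F) : Matrix ι ι F) * (P : Matrix ι ι F)) * R *
          ((P⁻¹ : GL ι F) : Matrix ι ι F) := by simp only [Matrix.mul_assoc]
      _ = _ := by rw [hP1, Matrix.mul_one]; simp only [Matrix.mul_assoc]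
  rw [h2, h1, Matrix.mul_sub, Matrix.sub_mul, Matrix.mul_smul, Matrix.smul_mul, ← hJ, Matrix.mul_smul, Matrix.mul_one,
    Matrix.smul_mul, hP2]

/-- an invertible matrix with an irreducible characteristic polynomial -/
theorem exists_mat (F : Type) [Field F] [Fintype F] : ∃ (j : GL (Fin 2) F) (c d : F), (∀ z : F, z * z - c * z + d ≠ 0) ∧
    (j : Matrix (Fin 2) (Fin 2) F) * (j : Matrix (Fin 2) (Fin 2) F) =
      c • (j : Matrix (Fin 2) (Fin 2) F) - d • (1 : Matrix (Fin 2) (Fin 2) F) := by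
  obtain ⟨c, d, h⟩ := exists_irr F
  have hd : d ≠ 0 := by
    intro hd
    exact h 0 (by rw [hd]; ring)
  have hdet : (!![0, -d; 1, c] : Matrix (Fin 2) (Fin 2) F).det ≠ 0 := by
    rw [Matrix.det_fin_two_of]
    simpa using hd
  refine ⟨Matrix.GeneralLinearGroup.mkOfDetNeZero !![0, -d; 1, c] hdet, c, d, h, ?_⟩
  have h1 : ((Matrix.GeneralLinearGroup.mkOfDetNeZero !![0, -d; 1, c] hdet : GL (Fin 2) F) : Matrix (Fin 2) (Fin 2) F) =
      !![0, -d; 1, c] := rfl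
  rw [h1]
  ext i j
  fin_cases i <;> fin_cases j <;> simp [Matrix.mul_apply, Fin.sum_univ_two] <;> ring

/-- an element whose order is prime to `|GL₂(q)|` modulo scalars -/
theorem scalar_of_pow {x : GL (Fin 2) F} {t : ℕ} (ht : t.Prime) (hd : ¬ t ∣ Nat.card (GL (Fin 2) F)) {c : F}
    (hx : ((x ^ t : GL (Fin 2) F) : Matrix (Fin 2) (Fin 2) F) = c • (1 : Matrix (Fin 2) (Fin 2) F)) :
    ∃ c' : F, (x : Matrix (Fin 2) (Fin 2) F) = c' • (1 : Matrix (Fin 2) (Fin 2) F) := by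
  have hcop : t.Coprime (orderOf x) := by
    rw [Nat.Prime.coprime_iff_not_dvd ht]
    exact fun h => hd (h.trans (orderOf_dvd_natCard x))
  obtain ⟨m, hm⟩ := exists_pow_eq_self_of_coprime hcop
  refine ⟨c ^ m, ?_⟩
  have h1 := congrArg (fun y : GL (Fin 2) F => (y : Matrix (Fin 2) (Fin 2) F)) hm
  beta_reduce at h1
  rw [Units.val_pow_eq_pow_val, hx, smul_pow, one_pow] at h1
  exact h1.symm

/-- a Kronecker product which is the identity -/
theorem kron_one {n₁ n₂ : ℕ} [NeZero n₂] {A : Matrix (Fin n₁) (Fin n₁) F} {B : Matrix (Fin n₂) (Fin n₂) F} (h : A ⊗ₖ B = 1) :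
    ∃ c : F, A = c • (1 : Matrix (Fin n₁) (Fin n₁) F) := by
  have h1 : ∀ i i' j j', A i i' * B j j' = if i = i' ∧ j = j' then 1 else 0 := by
    intro i i' j j'
    have := congrFun (congrFun h (i, j)) (i', j')
    rw [Matrix.kroneckerMap_apply, Matrix.one_apply] at this
    rw [this]
    simp only [Prod.mk.injEq]
  have hB : ∀ i : Fin n₁, B 0 0 ≠ 0 := by
    intro i h0
    have := h1 i i 0 0
    rw [h0, mul_zero] at this
    simp at this
  refine ⟨(B 0 0)⁻¹, ?_⟩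
  ext i i'
  have h2 := h1 i i' 0 0
  have h3 := hB i
  rw [Matrix.smul_apply, Matrix.one_apply, smul_eq_mul]
  by_cases hii : i = i'
  · rw [if_pos ⟨hii, rfl⟩] at h2
    rw [if_pos hii, mul_one]
    exact eq_inv_of_mul_eq_one_left h2
  · rw [if_neg (fun h => hii h.1)] at h2
    rw [if_neg hii, mul_zero]
    exact (mul_eq_zero.1 h2).resolve_right h3

theorem kron_one' {n₁ n₂ : ℕ} [NeZero n₁] {A : Matrix (Fin n₁) (Fin n₁) F} {B : Matrix (Fin n₂) (Fin n₂) F} (h : A ⊗ₖ B = 1) :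
    ∃ c : F, B = c • (1 : Matrix (Fin n₂) (Fin n₂) F) := by
  have h1 : ∀ i i' j j', A i i' * B j j' = if i = i' ∧ j = j' then 1 else 0 := by
    intro i i' j j'
    have := congrFun (congrFun h (i, j)) (i', j')
    rw [Matrix.kroneckerMap_apply, Matrix.one_apply] at this
    rw [this]
    simp only [Prod.mk.injEq]
  refine ⟨(A 0 0)⁻¹, ?_⟩
  ext j j'
  have h2 := h1 0 0 j j'
  have h3 : A 0 0 ≠ 0 := by
    intro h0
    have := h1 0 0 j j
    rw [h0, zero_mul] at this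
    simp at this
  rw [Matrix.smul_apply, Matrix.one_apply, smul_eq_mul]
  by_cases hjj : j = j'
  · rw [if_pos ⟨rfl, hjj⟩] at h2
    rw [if_pos hjj, mul_one]
    rw [mul_comm] at h2
    exact eq_inv_of_mul_eq_one_left h2
  · rw [if_neg (fun h => hjj h.2)] at h2
    rw [if_neg hjj, mul_zero]
    exact (mul_eq_zero.1 h2).resolve_left h3

theorem sub_kron {n₁ n₂ : ℕ} (A B : Matrix (Fin n₁) (Fin n₁) F) (C : Matrix (Fin n₂) (Fin n₂) F) :
    (A - B) ⊗ₖ C = A ⊗ₖ C - B ⊗ₖ C := by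
  ext ⟨i, j⟩ ⟨i', j'⟩
  simp [sub_mul]

theorem kron_sub {n₁ n₂ : ℕ} (A : Matrix (Fin n₁) (Fin n₁) F) (B C : Matrix (Fin n₂) (Fin n₂) F) :
    A ⊗ₖ (B - C) = A ⊗ₖ B - A ⊗ₖ C := by
  ext ⟨i, j⟩ ⟨i', j'⟩
  simp [mul_sub]

/-- **an element of order `t` of a tensor product subgroup commutes with a quadratic field** -/
theorem tensor_t {n₁ n₂ : ℕ} (e : ι ≃ Fin n₁ × Fin n₂) (P : GL ι F) (h1 : 2 ≤ n₁) (h1' : 2 ≤ n₂) (h12 : n₁ * n₂ = 8)
    {z : GL ι F} (hz : z ∈ tensorProductSubgroup n₁ n₂ e P) {t : ℕ} (ht : t.Prime) (hzt : z ^ t = 1)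
    (hd : ¬ t ∣ Nat.card (GL (Fin 2) F)) :
    ∃ (J : Matrix ι ι F) (c d : F), (∀ z : F, z * z - c * z + d ≠ 0) ∧ J * J = c • J - d • (1 : Matrix ι ι F) ∧
      (z : Matrix ι ι F) * J = J * (z : Matrix ι ι F) := by
  obtain ⟨⟨x, y⟩, hxy⟩ := mem_range_kronGL e P hz
  obtain ⟨j, c, d, hirr, hj⟩ := exists_mat F
  have hone : ((x ^ t : GL (Fin n₁) F) : Matrix (Fin n₁) (Fin n₁) F) ⊗ₖ ((y ^ t : GL (Fin n₂) F) : Matrix (Fin n₂) (Fin n₂) F) = 1 := by
    have h3 : kronGL e P (x ^ t, y ^ t) = 1 := by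
      rw [← hzt, ← hxy, ← map_pow]
      rfl
    have h4 : kron n₁ n₂ F (x ^ t, y ^ t) = 1 := by
      apply (glReindex e.symm).injective
      apply (MulAut.conj P).injective
      rw [map_one, map_one]
      exact h3
    exact congrArg Units.val h4
  have hcases : (n₁ = 2 ∧ n₂ = 4) ∨ (n₁ = 4 ∧ n₂ = 2) := by
    have h3 : n₁ ≤ 4 := by
      by_contra hcon
      push Not at hcon
      have := Nat.mul_le_mul hcon h1'
      omega
    interval_cases n₁ <;> omega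
  rcases hcases with ⟨rfl, rfl⟩ | ⟨rfl, rfl⟩
  · obtain ⟨c₁, hc₁⟩ := kron_one hone
    obtain ⟨c₂, hc₂⟩ := scalar_of_pow ht hd hc₁
    refine ⟨(kronGL e P (j, 1) : GL ι F), c, d, hirr, ?_, ?_⟩
    · refine transport_quad e.symm P (C := (j : Matrix (Fin 2) (Fin 2) F) ⊗ₖ (1 : Matrix (Fin 4) (Fin 4) F)) ?_ (by rw [coe_kronGL]; rfl)
      rw [← Matrix.mul_kronecker_mul, mul_one, hj, sub_kron, Matrix.smul_kronecker, Matrix.smul_kronecker,
        Matrix.one_kronecker_one]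
    · rw [← Units.val_mul, ← Units.val_mul, ← hxy, ← map_mul, ← map_mul]
      congr 2
      refine Prod.ext ?_ ?_
      · apply Units.ext
        change (x : Matrix (Fin 2) (Fin 2) F) * (j : Matrix (Fin 2) (Fin 2) F) = j * x
        rw [hc₂, Matrix.smul_mul, Matrix.one_mul, Matrix.mul_smul, Matrix.mul_one]
      · show y * 1 = 1 * y
        rw [one_mul, mul_one]
  · obtain ⟨c₁, hc₁⟩ := kron_one' hone
    obtain ⟨c₂, hc₂⟩ := scalar_of_pow ht hd hc₁
    refine ⟨(kronGL e P (1, j) : GL ι F), c, d, hirr, ?_, ?_⟩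
    · refine transport_quad e.symm P (C := (1 : Matrix (Fin 4) (Fin 4) F) ⊗ₖ (j : Matrix (Fin 2) (Fin 2) F)) ?_ (by rw [coe_kronGL]; rfl)
      rw [← Matrix.mul_kronecker_mul, mul_one, hj, kron_sub, Matrix.kronecker_smul, Matrix.kronecker_smul,
        Matrix.one_kronecker_one]
    · rw [← Units.val_mul, ← Units.val_mul, ← hxy, ← map_mul, ← map_mul]
      congr 2
      refine Prod.ext ?_ ?_
      · show x * 1 = 1 * x
        rw [one_mul, mul_one]
      · apply Units.ext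
        change (y : Matrix (Fin 2) (Fin 2) F) * (j : Matrix (Fin 2) (Fin 2) F) = j * y
        rw [hc₂, Matrix.smul_mul, Matrix.one_mul, Matrix.mul_smul, Matrix.mul_one]

end Kron

end Cfsg.Agent.H683.O8R
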